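import Cfsg.Agent.Lib.DefectZero.Richen

/-!
# Weights of modules of a split configuration in the defining characteristic

* `Ext`: the further properties of the configuration that the classification uses;
* `hecke`, `hecke_fixed`: the operators `∑ x(b) n` preserve the vectors fixed by `U`;
* `Eig`: a vector of a weight;
* `Eig.span_invariant`: its translates by `V` span an invariant subspace;
* `psiB`: a character of the torus as a character of the Borel subgroup.
-/

set_option autoImplicit false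
set_option linter.unusedSectionVars false
set_option linter.style.haveILetI false

noncomputable section

namespace CfsgLib.DefectZero.SplitData

variable {p : ℕ} {G : Type*} [Group G] [Fintype G] {F : Type*} [Field F] [Fintype F] [DecidableEq F]
  {ι : Type*} (D : SplitData p G F ι)

/-- `h_i(u)` in the torus. -/
def hT' (i : ι) : Fˣ →* D.T := (D.h i).codRestrict D.T (D.h_mem i)

@[simp] theorem coe_hT' (i : ι) (u : Fˣ) : (D.hT' i u : G) = D.h i u := rfl

/-- The root group of `i` stays in `U` under `m`. -/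
def Up (i : ι) (m : G) : Prop := ∀ a, m⁻¹ * D.x i a * m ∈ D.U

/-- The opposite root group of `i` enters `U` under `m`. -/
def Down (i : ι) (m : G) : Prop := ∀ a, m⁻¹ * D.y i a * m ∈ D.U

/-- What the classification of the modules uses beyond a split configuration. -/
structure Ext where
  T_le_N : D.T ≤ D.N
  rk : G → ℕ
  rk_T : ∀ m ∈ D.N, ∀ t ∈ D.T, rk (m * t) = rk m
  side : ∀ m ∈ D.N, ∀ i, D.Up i m ∨ D.Down i m
  up_rk : ∀ m ∈ D.N, ∀ i, D.Up i m → rk m < rk (D.n i * m)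
  eqv : ∀ m ∈ D.N, ∀ m' ∈ D.N, ∀ a ∈ D.B, ∀ c ∈ D.B, m' = a * m * c → m⁻¹ * m' ∈ D.T
  w0 : G
  w0_mem : w0 ∈ D.N
  w0_conj : ∀ g, g ∈ D.U ↔ w0 * g * w0⁻¹ ∈ D.V

theorem y_zero (i : ι) : D.y i 0 = 1 := by
  have := (D.rankOne i).y_add 0 0
  rwa [add_zero, left_eq_mul] at this

theorem mem_B_of_U {u : G} (hu : u ∈ D.U) : u ∈ D.B :=
  (D.mem_B u).mpr ⟨u, hu, 1, one_mem _, (mul_one u).symm⟩

theorem mem_B_of_T {t : G} (ht : t ∈ D.T) : t ∈ D.B :=
  (D.mem_B t).mpr ⟨1, one_mem _, t, ht, (one_mul t).symm⟩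

theorem T_U' {t u : G} (ht : t ∈ D.T) (hu : u ∈ D.U) : t⁻¹ * u * t ∈ D.U := by
  have := D.T_U _ (inv_mem ht) u hu
  rwa [inv_inv] at this

theorem N_T' {m t : G} (hm : m ∈ D.N) (ht : t ∈ D.T) : m⁻¹ * t * m ∈ D.T := by
  have := D.N_T _ (inv_mem hm) t ht
  rwa [inv_inv] at this

theorem Up.mul_T {D : SplitData p G F ι} {i : ι} {m t : G} (h : D.Up i m) (ht : t ∈ D.T) :
    D.Up i (m * t) := fun a => by
  have := D.T_U' ht (h a)
  rwa [show (m * t)⁻¹ * D.x i a * (m * t) = t⁻¹ * (m⁻¹ * D.x i a * m) * t by group]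

theorem Down.mul_T {D : SplitData p G F ι} {i : ι} {m t : G} (h : D.Down i m) (ht : t ∈ D.T) :
    D.Down i (m * t) := fun a => by
  have := D.T_U' ht (h a)
  rwa [show (m * t)⁻¹ * D.y i a * (m * t) = t⁻¹ * (m⁻¹ * D.y i a * m) * t by group]

theorem Down.up {D : SplitData p G F ι} {i : ι} {m : G} (h : D.Down i m) :
    D.Up i ((D.n i)⁻¹ * m) := fun a => by
  have := h (-a)
  rwa [← (D.rankOne i).nx a,
    show m⁻¹ * (D.n i * D.x i a * (D.n i)⁻¹) * m = ((D.n i)⁻¹ * m)⁻¹ * D.x i a * ((D.n i)⁻¹ * m) by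
      group] at this

/-- `n⁻¹ x(u⁻¹)` rewritten with an upper, a torus and a lower factor. -/
theorem n_inv_x_eq (i : ι) (u : Fˣ) :
    (D.n i)⁻¹ * D.x i (u : F)⁻¹ = D.x i (-(u : F)) * D.h i u * D.y i (u : F) := by
  have hk := (D.rankOne i).key u
  have hy : D.y i (-(u : F)⁻¹) = D.x i (-(u : F)) * (D.h i u * D.n i) * D.x i (-(u : F)) := by
    rw [← hk, D.x_neg]; group
  have h1 : (D.n i)⁻¹ * D.x i (u : F)⁻¹ = D.y i (-(u : F)⁻¹) * (D.n i)⁻¹ := by
    rw [← D.n_conj_x_inv]; group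
  have h2 := (D.rankOne i).nx (-(u : F))
  rw [neg_neg] at h2
  rw [h1, hy, ← h2]
  group

theorem U'_normal (i : ι) {u : G} (hu : u ∈ D.U) {z : G} (hz : z ∈ D.U' i) :
    u * z * u⁻¹ ∈ D.U' i := by
  obtain ⟨u', hu', c, rfl⟩ := D.U_decomp i u hu
  rw [show u' * D.x i c * z * (u' * D.x i c)⁻¹ = u' * (D.x i c * z * (D.x i c)⁻¹) * u'⁻¹ by group]
  exact mul_mem (mul_mem hu' (D.x_U' i c z hz)) (inv_mem hu')

theorem n_inv_U' (i : ι) {z : G} (hz : z ∈ D.U' i) : (D.n i)⁻¹ * z * D.n i ∈ D.U' i := by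
  let f : D.U' i → D.U' i := fun u => ⟨D.n i * u * (D.n i)⁻¹, D.n_U' i u u.2⟩
  have hf : Function.Surjective f := Finite.injective_iff_surjective.mp fun a b e => by
    simpa [f] using congrArg (Subtype.val : D.U' i → G) e
  obtain ⟨⟨w, hw⟩, e⟩ := hf ⟨z, hz⟩
  have e' : D.n i * w * (D.n i)⁻¹ = z := congrArg Subtype.val e
  rw [← e', show (D.n i)⁻¹ * (D.n i * w * (D.n i)⁻¹) * D.n i = w by group]
  exact hw

section Rep

variable {k W : Type*} [Field k] [AddCommGroup W] [Module k W] (ρ : Representation k G W)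

/-- The operator `∑ x(b) n`. -/
def hecke (i : ι) : W →ₗ[k] W := ∑ b : F, ρ (D.x i b * D.n i)

theorem hecke_apply (i : ι) (f : W) : D.hecke ρ i f = ∑ b : F, ρ (D.x i b * D.n i) f :=
  LinearMap.sum_apply _ _ _

theorem map_hecke {W' : Type*} [AddCommGroup W'] [Module k W'] (σ : Representation k G W')
    (e : W →ₗ[k] W') (he : ∀ g v, e (ρ g v) = σ g (e v)) (i : ι) (f : W) :
    e (D.hecke ρ i f) = D.hecke σ i (e f) := by
  simp only [hecke_apply, map_sum, he]

theorem hecke_fixed (i : ι) {f : W} (hf : ∀ u ∈ D.U, ρ u f = f) {u : G} (hu : u ∈ D.U) :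
    ρ u (D.hecke ρ i f) = D.hecke ρ i f := by
  choose z hz a ha using fun b => D.U_decomp i (u * D.x i b) (mul_mem hu (D.x_mem i b))
  have hinj : Function.Injective a := by
    intro b b' e
    have h1 : u * D.x i (b + -b') * u⁻¹ ∈ D.U' i := by
      rw [(D.rankOne i).x_add, D.x_neg,
        show u * (D.x i b * (D.x i b')⁻¹) * u⁻¹ = u * D.x i b * (u * D.x i b')⁻¹ by group,
        ha b, ha b', e, show z b * D.x i (a b') * (z b' * D.x i (a b'))⁻¹ = z b * (z b')⁻¹ by group]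
      exact mul_mem (hz b) (inv_mem (hz b'))
    have h2 := D.U'_normal i (inv_mem hu) h1
    rw [show u⁻¹ * (u * D.x i (b + -b') * u⁻¹) * u⁻¹⁻¹ = D.x i (b + -b') by group] at h2
    have := D.x_unique i _ h2
    rwa [← sub_eq_add_neg, sub_eq_zero] at this
  rw [hecke_apply, map_sum]
  refine Fintype.sum_bijective a (Finite.injective_iff_bijective.mp hinj) _ _ fun b => ?_
  have hw : (D.n i)⁻¹ * ((D.x i (a b))⁻¹ * z b * D.x i (a b)) * D.n i ∈ D.U := by
    refine D.U'_le i (D.n_inv_U' i ?_)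
    have := D.x_U' i (-a b) (z b) (hz b)
    rwa [D.x_neg, inv_inv] at this
  rw [← Module.End.mul_apply, ← map_mul, ← mul_assoc, ha,
    show z b * D.x i (a b) * D.n i = D.x i (a b) * D.n i *
      ((D.n i)⁻¹ * ((D.x i (a b))⁻¹ * z b * D.x i (a b)) * D.n i) by group,
    map_mul, Module.End.mul_apply, hf _ hw]

variable (k) in
open Classical in
/-- The eigenvalue of a weight. -/
def mu (J : Set ι) (i : ι) : k := if i ∈ J then -1 else 0

/-- A vector of weight `(ψ, J)`. -/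
structure Eig (ψ : D.T →* kˣ) (J : Set ι) (f : W) : Prop where
  ne : f ≠ 0
  fixU : ∀ u ∈ D.U, ρ u f = f
  torus : ∀ t : D.T, ρ (t : G) f = (ψ t : k) • f
  heckeEig : ∀ i, D.hecke ρ i f = mu k J i • f

theorem Eig.map {ψ : D.T →* kˣ} {J : Set ι} {f : W} (h : D.Eig ρ ψ J f) {W' : Type*}
    [AddCommGroup W'] [Module k W'] (σ : Representation k G W') (e : W →ₗ[k] W')
    (he : ∀ g v, e (ρ g v) = σ g (e v)) (hne : e f ≠ 0) : D.Eig σ ψ J (e f) where
  ne := hne
  fixU u hu := by rw [← he, h.fixU u hu]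
  torus t := by rw [← he, h.torus t, map_smul]
  heckeEig i := by rw [← D.map_hecke ρ σ e he, h.heckeEig i, map_smul]

theorem Eig.unique {ψ ψ' : D.T →* kˣ} {J J' : Set ι} {f : W} (h : D.Eig ρ ψ J f)
    (h' : D.Eig ρ ψ' J' f) : ψ = ψ' ∧ J = J' := by
  refine ⟨MonoidHom.ext fun t => Units.ext (smul_left_injective k h.ne ?_), Set.ext fun i => ?_⟩
  · show (ψ t : k) • f = (ψ' t : k) • f
    rw [← h.torus, h'.torus]
  · have e : mu k J i = mu k J' i := smul_left_injective k h.ne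
      (show mu k J i • f = mu k J' i • f by rw [← h.heckeEig, h'.heckeEig])
    unfold mu at e
    by_cases h1 : i ∈ J <;> by_cases h2 : i ∈ J' <;> simp_all

/-- The span of the translates of `f` by `V`. -/
def spanV (f : W) : Submodule k W := Submodule.span k (Set.range fun v : D.V => ρ (v : G) f)

theorem mem_spanV (f : W) : f ∈ D.spanV ρ f := Submodule.subset_span ⟨1, by simp⟩

theorem Eig.span_invariant {ψ : D.T →* kˣ} {J : Set ι} {f : W} (h : D.Eig ρ ψ J f) :
    ∀ g, ∀ s ∈ D.spanV ρ f, ρ g s ∈ D.spanV ρ f := by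
  set S := D.spanV ρ f
  have hTf : ∀ t ∈ D.T, ∀ v ∈ D.V, ρ (v * t) f ∈ S := fun t ht v hv => by
    rw [map_mul, Module.End.mul_apply, h.torus ⟨t, ht⟩, map_smul]
    exact S.smul_mem _ (Submodule.subset_span ⟨⟨v, hv⟩, rfl⟩)
  have hnyf : ∀ i (b : F), b ≠ 0 → ρ (D.n i * D.y i b) f ∈ S := by
    intro i b hb
    let w : Fˣ := -(Units.mk0 b hb)⁻¹
    have e : b = -(w : F)⁻¹ := by simp [w, inv_neg]
    rw [e, D.n_y_eq, map_mul, Module.End.mul_apply, h.fixU _ (D.x_mem i _)]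
    refine hTf _ ?_ _ (D.y_mem i _)
    rw [show D.n i * D.h i w * D.n i = D.n i * D.h i w * (D.n i)⁻¹ * (D.n i * D.n i) by group,
      (D.rankOne i).sq]
    exact mul_mem (D.N_T _ (D.n_mem i) _ (D.h_mem i w)) (D.h_mem i _)
  have hnf : ∀ i, ρ (D.n i) f ∈ S := by
    intro i
    have h1 := h.heckeEig i
    rw [hecke_apply, sum_zero_units, D.x_zero, one_mul, ← eq_sub_iff_add_eq] at h1
    rw [h1]
    refine S.sub_mem (S.smul_mem _ (D.mem_spanV ρ f)) (S.sum_mem fun u _ => ?_)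
    rw [show D.x i (u : F) * D.n i = D.n i * D.y i (-(u : F)) by rw [D.n_y, neg_neg]]
    exact hnyf i _ (neg_ne_zero.mpr u.ne_zero)
  let stab : Subgroup G :=
    { carrier := {g | ∀ s ∈ S, ρ g s ∈ S}
      one_mem' := fun s hs => by simpa using hs
      mul_mem' := fun {a b} ha hb s hs => by
        rw [map_mul, Module.End.mul_apply]; exact ha _ (hb s hs)
      inv_mem' := fun {a} ha s hs => by
        have hp : ∀ j, ρ (a ^ j) s ∈ S := by
          intro j
          induction j with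
          | zero => simpa using hs
          | succ j ih => rw [pow_succ', map_mul, Module.End.mul_apply]; exact ha _ ih
        rw [inv_eq_of_mul_eq_one_right (b := a ^ (orderOf a - 1)) (by
          rw [← pow_succ', Nat.sub_add_cancel (orderOf_pos a), pow_orderOf_eq_one])]
        exact hp _ }
  have hgens : ∀ g, (∀ v ∈ D.V, ρ (g * v) f ∈ S) → g ∈ stab := by
    intro g hg s hs
    induction hs using Submodule.span_induction with
    | mem x hx =>
      obtain ⟨v', rfl⟩ := hx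
      show ρ g (ρ (v' : G) f) ∈ S
      rw [← Module.End.mul_apply, ← map_mul]
      exact hg _ v'.2
    | zero => rw [map_zero]; exact S.zero_mem
    | add x y _ _ hx hy => rw [map_add]; exact S.add_mem hx hy
    | smul c x _ hx => rw [map_smul]; exact S.smul_mem c hx
  have hVS : ∀ v ∈ D.V, v ∈ stab := fun v hv => hgens v fun v' hv' =>
    Submodule.subset_span ⟨⟨v * v', mul_mem hv hv'⟩, rfl⟩
  have hstab : ⊤ ≤ stab := D.gen.trans ((Subgroup.closure_le _).mpr (by
    rintro g ((hg | hg) | ⟨i, rfl⟩)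
    · exact hVS g hg
    · refine hgens g fun v hv => ?_
      rw [show g * v = g * v * g⁻¹ * g by group]
      exact hTf g hg _ (D.T_V g hg v hv)
    · refine hgens _ fun v hv => ?_
      obtain ⟨v', hv', b, rfl⟩ := D.V_decomp i v hv
      rw [show D.n i * (v' * D.y i b) = D.n i * v' * (D.n i)⁻¹ * (D.n i * D.y i b) by group,
        map_mul, Module.End.mul_apply]
      refine hVS _ hv' _ ?_
      rcases eq_or_ne b 0 with rfl | hb
      · rw [D.y_zero, mul_one]; exact hnf i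
      · exact hnyf i b hb))
  exact fun g s hs => hstab (Subgroup.mem_top g) s hs

end Rep

section PsiB

variable {k : Type*} [Field k] [CharP k p] [Fact p.Prime]

/-- In characteristic `p` only one unit has order a power of `p`. -/
theorem unit_eq_one {z : kˣ} {a : ℕ} (h : z ^ p ^ a = 1) : z = 1 := by
  have : ExpChar k p := ExpChar.prime Fact.out
  refine Units.ext (sub_eq_zero.mp ?_)
  have h1 : ((z : k) - 1) ^ p ^ a = 0 := by
    rw [sub_pow_char_pow, one_pow, ← Units.val_pow_eq_pow_val, h, Units.val_one, sub_self]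
  exact eq_zero_of_pow_eq_zero h1

theorem psi_eq_one (ψ : D.T →* kˣ) (t : D.T) (ht : (t : G) ∈ D.U) : ψ t = 1 := by
  obtain ⟨a, ha⟩ := D.U_pgroup ⟨t, ht⟩
  have h1 : t ^ p ^ a = 1 := by
    refine Subtype.ext ?_
    simpa using congrArg Subtype.val ha
  exact unit_eq_one (a := a) (by rw [← map_pow, h1, map_one])

theorem psi_decomp (ψ : D.T →* kˣ) {u u' : G} (hu : u ∈ D.U) (hu' : u' ∈ D.U) {t t' : D.T}
    (e : u * (t : G) = u' * (t' : G)) : ψ t = ψ t' := by
  rw [← mul_inv_eq_one, ← map_inv, ← map_mul]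
  refine D.psi_eq_one ψ _ ?_
  rw [Subgroup.coe_mul, Subgroup.coe_inv,
    show (t : G) * (t' : G)⁻¹ = u⁻¹ * (u * t) * (t' : G)⁻¹ by group, e,
    show u⁻¹ * (u' * (t' : G)) * (t' : G)⁻¹ = u⁻¹ * u' by group]
  exact mul_mem (inv_mem hu) hu'

theorem B_decomp (b : D.B) : ∃ t : D.T, ∃ u ∈ D.U, (b : G) = u * t := by
  obtain ⟨u, hu, t, ht, e⟩ := (D.mem_B _).mp b.2
  exact ⟨⟨t, ht⟩, u, hu, e⟩

/-- A character of the torus as a character of `B`. -/
def psiB (ψ : D.T →* kˣ) : D.B →* kˣ :=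
  MonoidHom.mk' (fun b => ψ (D.B_decomp b).choose) fun a b => by
    obtain ⟨u₁, hu₁, e₁⟩ := (D.B_decomp a).choose_spec
    obtain ⟨u₂, hu₂, e₂⟩ := (D.B_decomp b).choose_spec
    obtain ⟨u₃, hu₃, e₃⟩ := (D.B_decomp (a * b)).choose_spec
    rw [← map_mul]
    refine D.psi_decomp ψ hu₃ (mul_mem hu₁ (D.T_U _ (D.B_decomp a).choose.2 u₂ hu₂)) ?_
    refine e₃.symm.trans ((congrArg₂ (· * ·) e₁ e₂).trans ?_)
    simp only [Subgroup.coe_mul]
    group

theorem psiB_eq (ψ : D.T →* kˣ) (b : D.B) {u : G} (hu : u ∈ D.U) {t : D.T}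
    (e : (b : G) = u * t) : D.psiB ψ b = ψ t := by
  obtain ⟨u₁, hu₁, e₁⟩ := (D.B_decomp b).choose_spec
  exact D.psi_decomp ψ hu₁ hu (e₁.symm.trans e)

theorem psiB_torus (ψ : D.T →* kˣ) (t : D.T) : D.psiB ψ ⟨t, D.mem_B_of_T t.2⟩ = ψ t :=
  D.psiB_eq ψ _ (one_mem _) (one_mul _).symm

theorem psiB_U (ψ : D.T →* kˣ) (u : G) (hu : u ∈ D.U) :
    D.psiB ψ ⟨u, D.mem_B_of_U hu⟩ = 1 :=
  (D.psiB_eq ψ _ hu (t := 1) (mul_one u).symm).trans (map_one ψ)

end PsiB

end CfsgLib.DefectZero.SplitData
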