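import Cfsg.Agent.Lib.DefectZero.CurtisRichen.Model
import Cfsg.Agent.Lib.Modular.CountIbr

/-!
# The irreducible modules of a split configuration in the defining characteristic

* `IrrMod.eig_line`: an irreducible module has one line fixed by `U`;
* `IrrMod.exists_iso`: irreducible modules of the same weight are isomorphic;
* `exists_irr_quot`: a weight of a module is the weight of an irreducible one;
* `card_regular_classes_eq_weights`: the classes of `p`-regular elements are as many as the weights.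
-/

set_option autoImplicit false
set_option linter.unusedSectionVars false
set_option linter.style.haveILetI false

noncomputable section

namespace CfsgLib.DefectZero

/-- Nonzero, and no proper invariant subspace. -/
def IrrMod {k : Type*} [Field k] {G : Type*} [Group G] {W : Type*} [AddCommGroup W] [Module k W]
    (ρ : Representation k G W) : Prop :=
  Nontrivial W ∧ ∀ U : Submodule k W, (∀ g, ∀ u ∈ U, ρ g u ∈ U) → U = ⊥ ∨ U = ⊤

theorem IrrMod.eq_top {k : Type*} [Field k] {G : Type*} [Group G] {W : Type*} [AddCommGroup W]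
    [Module k W] {ρ : Representation k G W} (h : IrrMod ρ) {U : Submodule k W}
    (hU : ∀ g, ∀ u ∈ U, ρ g u ∈ U) {u : W} (hu : u ∈ U) (hu0 : u ≠ 0) : U = ⊤ :=
  (h.2 U hU).resolve_left fun h0 => hu0 ((Submodule.mem_bot k).mp (h0 ▸ hu))

theorem IrrMod.dual {k : Type*} [Field k] {G : Type*} [Group G] {W : Type*} [AddCommGroup W]
    [Module k W] [FiniteDimensional k W] {ρ : Representation k G W} (h : IrrMod ρ) :
    IrrMod ρ.dual := by
  have := h.1
  refine ⟨inferInstance, fun U hU => ?_⟩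
  have hC : ∀ g, ∀ v ∈ U.dualCoannihilator, ρ g v ∈ U.dualCoannihilator := by
    intro g v hv
    rw [Submodule.mem_dualCoannihilator] at hv ⊢
    intro φ hφ
    have := hv _ (hU g⁻¹ φ hφ)
    simpa [Representation.dual_apply, Module.Dual.transpose_apply] using this
  rcases h.2 _ hC with hb | ht
  · refine Or.inr ?_
    rw [← Subspace.dualCoannihilator_dualAnnihilator_eq (W := U), hb,
      Submodule.dualAnnihilator_bot]
  · refine Or.inl ((Submodule.eq_bot_iff _).mpr fun φ hφ => LinearMap.ext fun v => ?_)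
    exact Submodule.mem_dualCoannihilator _ |>.mp (ht ▸ Submodule.mem_top : v ∈ _) φ hφ

/-- The product of two representations. -/
def prodRep {k : Type*} [Field k] {G : Type*} [Group G] {W W' : Type*} [AddCommGroup W]
    [Module k W] [AddCommGroup W'] [Module k W'] (ρ : Representation k G W)
    (σ : Representation k G W') : Representation k G (W × W') where
  toFun g := (ρ g).prodMap (σ g)
  map_one' := by ext v <;> simp
  map_mul' a b := by ext v <;> simp

namespace SplitData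

variable {p : ℕ} {G : Type*} [Group G] [Fintype G] {F : Type*} [Field F] [Fintype F] [DecidableEq F]
  {ι : Type*} {D : SplitData p G F ι} {k : Type*} [Field k] [CharP k p] [Fact p.Prime] [CharP F p]
  {W : Type*} [AddCommGroup W] [Module k W] [FiniteDimensional k W] {ρ : Representation k G W}

/-- A functional fixed by `V`. -/
theorem exists_dual_fixed (D : SplitData p G F ι) (ρ : Representation k G W) [Nontrivial W] :
    ∃ l : Module.Dual k W, l ≠ 0 ∧ ∀ v : D.V, ∀ w, l (ρ (v : G) w) = l w := by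
  obtain ⟨l, hl, hfix⟩ := CfsgLib.FGS.FreeCompl.exists_fixed_of_pGroup D.V_pgroup
    (MonoidHom.comp ρ.dual D.V.subtype)
  refine ⟨l, hl, fun v w => ?_⟩
  have := LinearMap.congr_fun (hfix v⁻¹) w
  simpa [Representation.dual_apply, Module.Dual.transpose_apply] using this

theorem eq_zero_on_spanV {l : Module.Dual k W} (hl : ∀ v : D.V, ∀ w, l (ρ (v : G) w) = l w)
    {f : W} (hf : l f = 0) : ∀ w ∈ D.spanV ρ f, l w = 0 := fun w hw => by
  induction hw using Submodule.span_induction with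
  | mem x hx =>
    obtain ⟨v, rfl⟩ := hx
    rw [hl, hf]
  | zero => rw [map_zero]
  | add x y _ _ hx hy => rw [map_add, hx, hy, add_zero]
  | smul c x _ hx => rw [map_smul, hx, smul_zero]

theorem Eig.spanV_eq_top {ψ : D.T →* kˣ} {J : Set ι} {f : W} (h : D.Eig ρ ψ J f)
    (hρ : IrrMod ρ) : D.spanV ρ f = ⊤ :=
  hρ.eq_top (h.span_invariant D ρ) (D.mem_spanV ρ f) h.ne

theorem IrrMod.V_fixed_line [IsAlgClosed k] (E : D.Ext) (hρ : IrrMod ρ) {v v' : W}
    (hv : ∀ u ∈ D.V, ρ u v = v) (hv0 : v ≠ 0) (hv' : ∀ u ∈ D.V, ρ u v' = v') :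
    ∃ c : k, v' = c • v := by
  have := hρ.dual.1
  obtain ⟨ψ, J, l, hl, -⟩ := D.exists_eig ρ.dual E
  have htop := hl.spanV_eq_top hρ.dual
  have key : ∀ z : W, (∀ u ∈ D.V, ρ u z = z) → l z = 0 → z = 0 := fun z hz hlz => by
    refine (Module.forall_dual_apply_eq_zero_iff k z).mp fun φ => ?_
    have hφ : φ ∈ D.spanV ρ.dual l := htop ▸ Submodule.mem_top
    induction hφ using Submodule.span_induction with
    | mem x hx =>
      obtain ⟨u, rfl⟩ := hx
      show ρ.dual (u : G) l z = 0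
      simp [Representation.dual_apply, Module.Dual.transpose_apply, hz _ (inv_mem u.2), hlz]
    | zero => rfl
    | add x y _ _ hx hy => rw [LinearMap.add_apply, hx, hy, add_zero]
    | smul c x _ hx => rw [LinearMap.smul_apply, hx, smul_zero]
  have hlv : l v ≠ 0 := fun h => hv0 (key v hv h)
  refine ⟨l v' / l v, sub_eq_zero.mp (key _ (fun u hu => ?_) ?_)⟩
  · rw [map_sub, map_smul, hv u hu, hv' u hu]
  · rw [map_sub, map_smul, smul_eq_mul, div_mul_cancel₀ _ hlv, sub_self]

theorem IrrMod.eig_line [IsAlgClosed k] (E : D.Ext) (hρ : IrrMod ρ) {f g : W}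
    (hf : ∀ u ∈ D.U, ρ u f = f) (hf0 : f ≠ 0) (hg : ∀ u ∈ D.U, ρ u g = g) :
    ∃ c : k, g = c • f := by
  have hinv : ∀ x, ρ E.w0⁻¹ (ρ E.w0 x) = x := fun x => by
    rw [← Module.End.mul_apply, ← map_mul, inv_mul_cancel, map_one, Module.End.one_apply]
  have hmove : ∀ {x : W}, (∀ u ∈ D.U, ρ u x = x) → ∀ v ∈ D.V, ρ v (ρ E.w0 x) = ρ E.w0 x := by
    intro x hx v hv
    have hu : E.w0⁻¹ * v * E.w0 ∈ D.U := by
      rw [E.w0_conj, show E.w0 * (E.w0⁻¹ * v * E.w0) * E.w0⁻¹ = v by group]; exact hv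
    rw [← Module.End.mul_apply, ← map_mul,
      show v * E.w0 = E.w0 * (E.w0⁻¹ * v * E.w0) by group, map_mul, Module.End.mul_apply, hx _ hu]
  obtain ⟨c, hc⟩ := IrrMod.V_fixed_line E hρ (hmove hf)
    (fun e => hf0 (by rw [← hinv f, e, map_zero])) (hmove hg)
  exact ⟨c, by rw [← hinv g, hc, map_smul, hinv]⟩

theorem IrrMod.weight_unique [IsAlgClosed k] (E : D.Ext) (hρ : IrrMod ρ) {ψ ψ' : D.T →* kˣ}
    {J J' : Set ι} {f g : W} (hf : D.Eig ρ ψ J f) (hg : D.Eig ρ ψ' J' g) : ψ = ψ' ∧ J = J' := by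
  obtain ⟨c, hc⟩ := IrrMod.eig_line E hρ hf.fixU hf.ne hg.fixU
  have hc0 : c ≠ 0 := fun e => hg.ne (by rw [hc, e, zero_smul])
  exact (hf.map D ρ ρ (c • LinearMap.id) (fun _ _ => by simp) (by simpa using ⟨hc0, hf.ne⟩)).unique
    D ρ (show D.Eig ρ ψ' J' ((c • LinearMap.id : W →ₗ[k] W) f) by simpa [← hc] using hg)

theorem IrrMod.exists_iso {W' : Type*} [AddCommGroup W'] [Module k W'] [FiniteDimensional k W']
    {σ : Representation k G W'} (hρ : IrrMod ρ) (hσ : IrrMod σ) {ψ : D.T →* kˣ} {J : Set ι}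
    {f : W} {g : W'} (hf : D.Eig ρ ψ J f) (hg : D.Eig σ ψ J g) :
    ∃ e : W ≃ₗ[k] W', ∀ x v, e (ρ x v) = σ x (e v) := by
  set π := prodRep ρ σ
  have hfg : D.Eig π ψ J (f, g) :=
    { ne := fun e => hf.ne (congrArg Prod.fst e)
      fixU := fun u hu => Prod.ext (hf.fixU u hu) (hg.fixU u hu)
      torus := fun t => Prod.ext (hf.torus t) (hg.torus t)
      heckeEig := fun i => Prod.ext
        ((D.map_hecke π ρ (LinearMap.fst k W W') (fun _ _ => rfl) i (f, g)).trans (hf.heckeEig i))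
        ((D.map_hecke π σ (LinearMap.snd k W W') (fun _ _ => rfl) i (f, g)).trans (hg.heckeEig i)) }
  set S := D.spanV π (f, g) with hSdef
  have hS := hfg.span_invariant D π
  have hne : S ≠ ⊤ := by
    intro htop
    have := hρ.1
    have := hσ.1
    obtain ⟨l, hl0, hl⟩ := D.exists_dual_fixed ρ
    obtain ⟨m, hm0, hm⟩ := D.exists_dual_fixed σ
    have hlf : l f ≠ 0 := fun e => hl0 (LinearMap.ext fun w =>
      eq_zero_on_spanV hl e w (hf.spanV_eq_top hρ ▸ Submodule.mem_top))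
    have hmg : m g ≠ 0 := fun e => hm0 (LinearMap.ext fun w =>
      eq_zero_on_spanV hm e w (hg.spanV_eq_top hσ ▸ Submodule.mem_top))
    let L : Module.Dual k (W × W') :=
      m g • (l ∘ₗ LinearMap.fst k W W') - l f • (m ∘ₗ LinearMap.snd k W W')
    have hL : ∀ v : D.V, ∀ w, L (π (v : G) w) = L w := fun v w => by
      simp [L, π, prodRep, hl, hm]
    have hLf : L (f, g) = 0 := by simp [L, mul_comm]
    have h0 := eq_zero_on_spanV hL hLf (f, 0) (by rw [← hSdef, htop]; exact Submodule.mem_top)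
    simp [L, hlf, hmg] at h0
  have hπl : ∀ x u, π x (LinearMap.inl k W W' u) = LinearMap.inl k W W' (ρ x u) := fun x u =>
    Prod.ext rfl (map_zero (σ x))
  have hπr : ∀ x u, π x (LinearMap.inr k W W' u) = LinearMap.inr k W W' (σ x u) := fun x u =>
    Prod.ext (map_zero (ρ x)) rfl
  have hcl : ∀ z ∈ S, z.1 = 0 → z = 0 := by
    rintro ⟨z₁, z₂⟩ hz (rfl : z₁ = 0)
    by_contra hz0
    refine hne ?_
    have h1 : S.comap (LinearMap.inr k W W') = ⊤ :=
      hσ.eq_top (fun x u hu => Submodule.mem_comap.mpr (hπr x u ▸ hS x _ hu)) hz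
        (fun e => hz0 (Prod.ext rfl e))
    have h2 : S.comap (LinearMap.inl k W W') = ⊤ := by
      refine hρ.eq_top (fun x u hu => Submodule.mem_comap.mpr (hπl x u ▸ hS x _ hu)) (u := f) ?_ hf.ne
      have hg' : ((0 : W), g) ∈ S :=
        (h1 ▸ Submodule.mem_top : g ∈ S.comap (LinearMap.inr k W W'))
      simpa using S.sub_mem (D.mem_spanV π (f, g)) hg'
    refine eq_top_iff.mpr fun z _ => ?_
    rw [show z = (z.1, (0 : W')) + ((0 : W), z.2) by simp]
    exact S.add_mem (h2 ▸ Submodule.mem_top : z.1 ∈ S.comap (LinearMap.inl k W W'))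
      (h1 ▸ Submodule.mem_top : z.2 ∈ S.comap (LinearMap.inr k W W'))
  have hcl' : ∀ z ∈ S, z.2 = 0 → z = 0 := by
    rintro ⟨z₁, z₂⟩ hz (rfl : z₂ = 0)
    by_contra hz0
    refine hne ?_
    have h1 : S.comap (LinearMap.inl k W W') = ⊤ :=
      hρ.eq_top (fun x u hu => Submodule.mem_comap.mpr (hπl x u ▸ hS x _ hu)) hz
        (fun e => hz0 (Prod.ext e rfl))
    have h2 : S.comap (LinearMap.inr k W W') = ⊤ := by
      refine hσ.eq_top (fun x u hu => Submodule.mem_comap.mpr (hπr x u ▸ hS x _ hu)) (u := g) ?_ hg.ne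
      have hf' : (f, (0 : W')) ∈ S :=
        (h1 ▸ Submodule.mem_top : f ∈ S.comap (LinearMap.inl k W W'))
      simpa using S.sub_mem (D.mem_spanV π (f, g)) hf'
    refine eq_top_iff.mpr fun z _ => ?_
    rw [show z = (z.1, (0 : W')) + ((0 : W), z.2) by simp]
    exact S.add_mem (h1 ▸ Submodule.mem_top : z.1 ∈ S.comap (LinearMap.inl k W W'))
      (h2 ▸ Submodule.mem_top : z.2 ∈ S.comap (LinearMap.inr k W W'))
  let p₁ : S →ₗ[k] W := LinearMap.fst k W W' ∘ₗ S.subtype
  let p₂ : S →ₗ[k] W' := LinearMap.snd k W W' ∘ₗ S.subtype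
  have b₁ : Function.Bijective p₁ := by
    refine ⟨LinearMap.ker_eq_bot.mp (LinearMap.ker_eq_bot'.mpr fun z hz =>
      Subtype.ext (hcl _ z.2 hz)), LinearMap.range_eq_top.mp (hρ.eq_top ?_
        ⟨⟨_, D.mem_spanV π (f, g)⟩, rfl⟩ hf.ne)⟩
    rintro x _ ⟨z, rfl⟩
    exact ⟨⟨_, hS x _ z.2⟩, rfl⟩
  have b₂ : Function.Bijective p₂ := by
    refine ⟨LinearMap.ker_eq_bot.mp (LinearMap.ker_eq_bot'.mpr fun z hz =>
      Subtype.ext (hcl' _ z.2 hz)), LinearMap.range_eq_top.mp (hσ.eq_top ?_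
        ⟨⟨_, D.mem_spanV π (f, g)⟩, rfl⟩ hg.ne)⟩
    rintro x _ ⟨z, rfl⟩
    exact ⟨⟨_, hS x _ z.2⟩, rfl⟩
  refine ⟨(LinearEquiv.ofBijective p₁ b₁).symm ≪≫ₗ LinearEquiv.ofBijective p₂ b₂, fun x v => ?_⟩
  obtain ⟨z, rfl⟩ := b₁.2 v
  have e1 : (LinearEquiv.ofBijective p₁ b₁).symm (p₁ z) = z :=
    (LinearEquiv.ofBijective p₁ b₁).symm_apply_apply z
  have e2 : (LinearEquiv.ofBijective p₁ b₁).symm (ρ x (p₁ z)) = ⟨_, hS x _ z.2⟩ :=
    (LinearEquiv.ofBijective p₁ b₁).symm_apply_apply ⟨_, hS x _ z.2⟩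
  simp only [LinearEquiv.trans_apply, e1, e2]
  rfl

theorem exists_irr_quot {ψ : D.T →* kˣ} {J : Set ι} {f : W} (h : D.Eig ρ ψ J f) :
    ∃ (n : ℕ) (σ : Representation k G (Fin n → k)) (g : Fin n → k),
      IrrMod σ ∧ D.Eig σ ψ J g := by
  set X := D.spanV ρ f
  have hX : ∀ g, X ≤ X.comap (ρ g) := fun g s hs => h.span_invariant D ρ g s hs
  set τ := CfsgLib.Modular.subRep ρ X hX
  set f₀ : X := ⟨f, D.mem_spanV ρ f⟩
  have hf₀ : D.Eig τ ψ J f₀ :=
    { ne := fun e => h.ne (congrArg Subtype.val e)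
      fixU := fun u hu => Subtype.ext (h.fixU u hu)
      torus := fun t => Subtype.ext (h.torus t)
      heckeEig := fun i => Subtype.ext
        ((D.map_hecke τ ρ X.subtype (fun _ _ => rfl) i f₀).trans (h.heckeEig i)) }
  obtain ⟨N, ⟨hNi, hNf⟩, hmax⟩ := WellFounded.has_min (wellFounded_gt (α := Submodule k X))
    {N | (∀ g, N ≤ N.comap (τ g)) ∧ f₀ ∉ N}
    ⟨⊥, fun g => bot_le, fun e => hf₀.ne ((Submodule.mem_bot k).mp e)⟩
  set σ := CfsgLib.Modular.quotRep τ N hNi
  have hne : N.mkQ f₀ ≠ 0 := by simpa [Submodule.Quotient.mk_eq_zero] using hNf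
  have hσ : D.Eig σ ψ J (N.mkQ f₀) := hf₀.map D τ σ N.mkQ (fun _ _ => rfl) hne
  have hirr : IrrMod σ := by
    refine ⟨⟨⟨_, _, hne⟩⟩, fun U hU => ?_⟩
    by_cases hfU : f₀ ∈ U.comap N.mkQ
    · refine Or.inr (eq_top_iff.mpr fun z _ => ?_)
      obtain ⟨w, rfl⟩ := N.mkQ_surjective z
      have hw : (w : W) ∈ (U.comap N.mkQ).map X.subtype := by
        refine Submodule.span_le.mpr ?_ w.2
        rintro _ ⟨v, rfl⟩
        exact ⟨τ (v : G) f₀, hU (v : G) _ hfU, rfl⟩
      obtain ⟨w', hw', e⟩ := hw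
      rw [← Subtype.ext e]
      exact hw'
    · refine Or.inl ?_
      have hle : N ≤ U.comap N.mkQ := fun z hz => by
        show N.mkQ z ∈ U
        rw [Submodule.mkQ_apply, (Submodule.Quotient.mk_eq_zero N).mpr hz]
        exact U.zero_mem
      have := hmax (U.comap N.mkQ) ⟨fun g z hz => hU g (N.mkQ z) hz, hfU⟩
      have heq : U.comap N.mkQ = N := (hle.eq_of_not_lt this).symm
      rw [← Submodule.map_comap_eq_of_surjective N.mkQ_surjective U, heq]
      exact Submodule.mkQ_map_self N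
  let B := (Module.finBasis k (X ⧸ N)).equivFun
  let σ' : Representation k G (Fin (Module.finrank k (X ⧸ N)) → k) :=
    { toFun := fun g => B.conj (σ g)
      map_one' := by rw [map_one]; exact B.conj_id
      map_mul' := fun a b => by rw [map_mul, Module.End.mul_eq_comp, B.conj_comp]; rfl }
  have hB : ∀ g v, B (σ g v) = σ' g (B v) := fun g v => by
    show B (σ g v) = B.conj (σ g) (B v)
    rw [LinearEquiv.conj_apply_apply, LinearEquiv.symm_apply_apply]
  refine ⟨_, σ', B (N.mkQ f₀), ⟨?_, fun U hU => ?_⟩,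
    hσ.map D σ σ' B.toLinearMap hB (fun e => hne (B.map_eq_zero_iff.mp e))⟩
  · exact ⟨⟨B (N.mkQ f₀), 0, fun e => hne (B.map_eq_zero_iff.mp e)⟩⟩
  · rcases hirr.2 (U.comap B.toLinearMap) (fun g u hu => by
      show B (σ g u) ∈ U
      rw [hB]; exact hU g _ hu) with h0 | h0
    · exact Or.inl (Submodule.comap_injective_of_surjective B.surjective (h0.trans (by simp)))
    · exact Or.inr (Submodule.comap_injective_of_surjective B.surjective (h0.trans (by simp)))

end SplitData

open Cfsg CfsgLib.Blocks CfsgLib.Modular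

attribute [local instance] CfsgLib.Blocks.resField

theorem irrMod_iff {k : Type*} [Field k] {G : Type*} [Group G] {W : Type*} [AddCommGroup W]
    [Module k W] (ρ : Representation k G W) : IrrMod ρ ↔ ρ.IsIrreducible := by
  constructor
  · rintro ⟨hV, hU⟩
    have hne : (⊥ : Subrepresentation ρ) ≠ ⊤ := fun e =>
      (bot_ne_top (α := Submodule k W)) (congrArg Subrepresentation.toSubmodule e)
    exact
      { exists_pair_ne := ⟨⊥, ⊤, hne⟩
        eq_bot_or_eq_top := fun U => (hU U.toSubmodule fun g u hu => U.apply_mem_toSubmodule g hu).imp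
          (fun e => Subrepresentation.toSubmodule_injective e)
          (fun e => Subrepresentation.toSubmodule_injective e) }
  · intro h
    refine ⟨?_, fun U hU => ?_⟩
    · obtain ⟨a, b, hab⟩ := h.exists_pair_ne
      by_contra hV
      rw [not_nontrivial_iff_subsingleton] at hV
      exact hab (Subrepresentation.toSubmodule_injective (Subsingleton.elim _ _))
    · have : IsSimpleOrder (Subrepresentation ρ) := h
      rcases IsSimpleOrder.eq_bot_or_eq_top (⟨U, fun g v hv => hU g v hv⟩ : Subrepresentation ρ)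
        with h1 | h1
      · exact Or.inl (congrArg Subrepresentation.toSubmodule h1)
      · exact Or.inr (congrArg Subrepresentation.toSubmodule h1)

/-- The classes of `p`-regular elements are as many as the admissible weights. -/
theorem card_regular_classes_eq_weights {p : ℕ} {G : Type*} [Group G] [Fintype G] {F : Type*}
    [Field F] [Fintype F] [DecidableEq F] [CharP F p] {ι : Type*} (D : SplitData p G F ι)
    (E : D.Ext) {M : Ideal AlgInt} [M.IsMaximal] (hM : IsPModular p M)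
    (hL : D.HasLevi (Res M)) :
    Nat.card {c : ConjClasses G // ∃ g : G, ConjClasses.mk g = c ∧ ¬ p ∣ orderOf g} =
      Nat.card {x : (D.T →* (Res M)ˣ) × Set ι // ∀ i ∈ x.2, ∀ u, x.1 (D.hT' i u) = 1} := by
  have : Fact p.Prime := ⟨hM.1⟩
  have : CharP (Res M) p := res_charP M hM
  have := res_isAlgClosed M
  rw [card_regular_classes hM]
  refine card_ibrF_eq hM (fun n σ x => ∃ f, D.Eig σ x.1.1 x.1.2 f) (fun n σ hσ => ?_)
    (fun n σ x y hσ hx hy => ?_) (fun x => ?_) (fun m n σ τ x hσ hτ hx hy => ?_)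
    (fun m n σ τ e x he hx => ?_)
  · have := ((irrMod_iff σ).mpr hσ).1
    obtain ⟨ψ, J, f, hf, hJ⟩ := D.exists_eig σ E
    exact ⟨⟨(ψ, J), hJ⟩, f, hf⟩
  · obtain ⟨f, hf⟩ := hx
    obtain ⟨g, hg⟩ := hy
    obtain ⟨h1, h2⟩ := SplitData.IrrMod.weight_unique E ((irrMod_iff σ).mpr hσ) hf hg
    exact Subtype.ext (Prod.ext h1 h2)
  · obtain ⟨φ, hφ⟩ := D.exists_eig_of_levi E hL x.1.1 x.1.2 x.2
    obtain ⟨n, σ, g, hσ, hg⟩ := SplitData.exists_irr_quot hφ
    exact ⟨n, σ, (irrMod_iff σ).mp hσ, g, hg⟩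
  · obtain ⟨f, hf⟩ := hx
    obtain ⟨g, hg⟩ := hy
    exact SplitData.IrrMod.exists_iso ((irrMod_iff σ).mpr hσ) ((irrMod_iff τ).mpr hτ) hf hg
  · obtain ⟨f, hf⟩ := hx
    exact ⟨e f, hf.map D σ τ e.toLinearMap he (fun h => hf.ne (e.map_eq_zero_iff.mp h))⟩

end CfsgLib.DefectZero
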