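import Cfsg.Agent.Lib.DefectZero.Chevalley
import Cfsg.Agent.Lib.DefectZero.CurtisRichen.Classify
import Cfsg.Agent.Lib.Chev.Poincare
import Cfsg.Agent.Lib.Blocks.GaloisInv
import Mathlib.GroupTheory.FiniteAbelian.Duality

/-!
# The number of classes of semisimple elements of a Chevalley group with free torus

* `TorusFree`: `c ↦ hT c` is injective on the first `l` coordinates;
* `chevExt`: a Chevalley group satisfies `SplitData.Ext`;
* `hasLevi`: a character of the torus trivial on some coroots extends to the subgroup of `N`;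
* `card_regular_classes`: there are `q ^ l` classes of elements of order prime to `p`.
-/

set_option autoImplicit false
set_option linter.unusedSectionVars false
set_option linter.style.haveILetI false

noncomputable section

namespace CfsgLib.DefectZero

open Cfsg.Lie CfsgLib.Chev

universe v

variable {D : ChevalleyDatum} {co : ℕ → ℕ → ℤ} {K : Type v} [Field K]

/-- The coordinates of a torus element are unique. -/
def TorusFree (D : ChevalleyDatum) (K : Type v) [Field K] : Prop :=
  ∀ c : ℕ → Kˣ, hT D c = 1 → ∀ i < D.rank, c i = 1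

/-- An integral inverse of the Cartan matrix up to a factor prime to `q - 1` frees the torus. -/
theorem torusFree_of_inverse (hF : Facts D co) [Fintype K] (B : Fin D.rank → Fin D.rank → ℤ)
    (d : ℕ) (hd : d.Coprime (Fintype.card K - 1))
    (hB : ∀ j i : Fin D.rank, ∑ k : Fin D.rank, D.cartan j.val (D.simple k.val) * B k i =
      if j = i then (d : ℤ) else 0) : TorusFree D K := by
  classical
  intro c hc i hi
  have hk : ∀ k : Fin D.rank, ∏ j : Fin D.rank, c j.val ^ D.cartan j.val (D.simple k.val) = 1 := by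
    intro k
    have h := congrArg (fun g : GL D.Idx K => (g : Matrix D.Idx D.Idx K)
      (Sum.inr (hF.simpleFin k)) (Sum.inr (hF.simpleFin k))) hc
    simp only [hT, dU_val, diagC, Matrix.diagonal_apply_eq, Sum.elim_inr, Units.val_one,
      Matrix.one_apply_eq, Units.val_eq_one] at h
    rwa [← Fin.prod_univ_eq_prod_range] at h
  have h1 : c i ^ (d : ℤ) = 1 := by
    have e : ∏ k : Fin D.rank, (∏ j : Fin D.rank, c j.val ^ D.cartan j.val (D.simple k.val)) ^
        B k ⟨i, hi⟩ = 1 := Finset.prod_eq_one fun k _ => by rw [hk, one_zpow]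
    simp only [← Finset.prod_zpow, ← zpow_mul] at e
    rw [Finset.prod_comm, Finset.prod_eq_single (⟨i, hi⟩ : Fin D.rank)] at e
    · have hsum : ∀ (a : Kˣ) (f : Fin D.rank → ℤ),
          ∏ k, a ^ f k = a ^ ∑ k, f k := fun a f =>
        Finset.induction_on Finset.univ (by simp) fun k s hk ih => by
          rw [Finset.prod_insert hk, Finset.sum_insert hk, zpow_add, ih]
      rw [hsum, hB, if_pos rfl] at e
      exact e
    · intro j _ hj
      have hsum : ∀ (a : Kˣ) (f : Fin D.rank → ℤ),
          ∏ k, a ^ f k = a ^ ∑ k, f k := fun a f =>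
        Finset.induction_on Finset.univ (by simp) fun k s hk ih => by
          rw [Finset.prod_insert hk, Finset.sum_insert hk, zpow_add, ih]
      rw [hsum, hB, if_neg hj, zpow_zero]
    · simp
  rw [zpow_natCast] at h1
  have h2 : c i ^ (Fintype.card K - 1) = 1 := by
    rw [← Fintype.card_units]; exact pow_card_eq_one
  have := pow_gcd_eq_one.mpr ⟨h1, h2⟩
  rwa [Nat.coprime_iff_gcd_eq_one.mp hd, pow_one] at this

variable (hF : Facts D co) (hC : CommF.{v} D)
include hF hC

theorem co_sW_off {J : Set (Fin D.rank)} {l : List (Fin D.rank)} (hl : ∀ k ∈ l, k ∈ J)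
    (r : Fin D.nroots) {i : Fin D.rank} (hi : i ∉ J) :
    co (sW D l r).val i.val = co r.val i.val := by
  have _ := hC
  induction l with
  | nil => rw [sW_nil, Equiv.Perm.one_apply]
  | cons a l ih =>
    rw [sW_cons, Equiv.Perm.mul_apply, hF.sP_val,
      hF.co_refl a.val a.isLt _ (sW D l r).isLt i.val i.isLt,
      if_neg fun e => hi (by rw [← (Fin.ext e : a = i)]; exact hl a (by simp)), sub_zero,
      ih fun k hk => hl k (by simp [hk])]

/-- The torus elements supported on the indices in `J`. -/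
def torusK (K : Type v) [Field K] (J : Set (Fin D.rank)) : Subgroup (GL D.Idx K) where
  carrier := {g | ∃ c : ℕ → Kˣ, g = hT D c ∧ ∀ i : Fin D.rank, i ∉ J → c i.val = 1}
  one_mem' := ⟨fun _ => 1, hF.hT_one.symm, fun _ _ => rfl⟩
  mul_mem' := by
    rintro _ _ ⟨a, rfl, ha⟩ ⟨b, rfl, hb⟩
    exact ⟨fun i => a i * b i, (hF.hT_mul a b).symm, fun i hi => by
      simp only [ha i hi, hb i hi, mul_one]⟩
  inv_mem' := by
    rintro _ ⟨a, rfl, ha⟩
    exact ⟨fun i => (a i)⁻¹, (hF.hT_inv a).symm, fun i hi => by simp only [ha i hi, inv_one]⟩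

theorem torusK_le (J : Set (Fin D.rank)) : torusK hF K J ≤ D.diagonalSubgroup K := by
  rintro _ ⟨c, rfl, -⟩
  exact hF.mem_diagonal_iff.2 ⟨c, rfl⟩

omit hC in
/-- Conjugation by `n_k` changes the `k`-th coordinate only. -/
theorem nS_conj_coord (k : Fin D.rank) (c : ℕ → Kˣ) :
    ∃ c' : ℕ → Kˣ, nS D K k * hT D c * (nS D K k)⁻¹ = hT D c' ∧
      ∀ j, j ≠ k.val → c' j = c j := by
  set u : Kˣ := ∏ j ∈ Finset.range D.rank, c j ^ (-D.cartan j (D.simple k.val))
  refine ⟨fun j => if j = k.val then c j * u else c j, ?_, fun j hj => if_neg hj⟩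
  rw [nS, hT, hF.nU_simple_conj_dU k.isLt, hT]
  refine dU_congr fun s hs => ?_
  have h1 : ∀ j ∈ Finset.range D.rank, c j ^ D.cartan j (D.reflectRoot k.val s) =
      c j ^ D.cartan j s * (c j ^ (-D.cartan j (D.simple k.val))) ^ D.cartan k.val s := by
    intro j hj
    rw [hF.cartan_refl k.val k.isLt s hs j (Finset.mem_range.1 hj), ← zpow_mul, ← zpow_add]
    congr 1
    ring
  rw [Finset.prod_congr rfl h1, Finset.prod_mul_distrib, Finset.prod_zpow]
  have h2 : ∀ j ∈ Finset.range D.rank, (if j = k.val then c j * u else c j) ^ D.cartan j s =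
      c j ^ D.cartan j s * if j = k.val then u ^ D.cartan j s else 1 := by
    intro j _
    split_ifs with h
    · rw [mul_zpow]
    · rw [mul_one]
  rw [Finset.prod_congr rfl h2, Finset.prod_mul_distrib, Finset.prod_ite_eq',
    if_pos (Finset.mem_range.2 k.isLt)]

theorem nS_conj_torusK {J : Set (Fin D.rank)} {k : Fin D.rank} (hk : k ∈ J) {g : GL D.Idx K}
    (hg : g ∈ torusK hF K J) : nS D K k * g * (nS D K k)⁻¹ ∈ torusK hF K J := by
  obtain ⟨c, rfl, hc⟩ := hg
  obtain ⟨c', e, hc'⟩ := nS_conj_coord hF k c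
  exact ⟨c', e, fun i hi => by rw [hc' _ (fun h => hi (by rw [(Fin.ext h : i = k)]; exact hk)), hc i hi]⟩

theorem nS_sq_torusK {J : Set (Fin D.rank)} {k : Fin D.rank} (hk : k ∈ J) :
    nS D K k * nS D K k ∈ torusK hF K J := by
  have e : nS D K k * nS D K k = hU D (D.simple k.val) ((-1 : Kˣ) : K) :=
    hF.nU_sq (hF.simple_lt' k.isLt)
  refine ⟨fun i => if i = k.val then -1 else 1, ?_, fun i hi => if_neg fun h => hi (by rw [(Fin.ext h : i = k)]; exact hk)⟩
  rw [e, hF.hU_simple k.isLt, hT]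
  refine dU_congr fun s _ => ?_
  rw [Finset.prod_eq_single k.val]
  · rw [if_pos rfl]
  · intro j _ hj; rw [if_neg hj, one_zpow]
  · intro h; exact absurd (Finset.mem_range.2 k.isLt) h

theorem nS_conj_torusK' {J : Set (Fin D.rank)} {k : Fin D.rank} (hk : k ∈ J) {g : GL D.Idx K}
    (hg : g ∈ torusK hF K J) : (nS D K k)⁻¹ * g * nS D K k ∈ torusK hF K J := by
  have hs := nS_sq_torusK hF hC (K := K) hk
  rw [show (nS D K k)⁻¹ * g * nS D K k = (nS D K k * nS D K k)⁻¹ *
    (nS D K k * g * (nS D K k)⁻¹) * (nS D K k * nS D K k) by group]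
  exact mul_mem (mul_mem (inv_mem hs) (nS_conj_torusK hF hC hk hg)) hs

theorem nW_conj_torusK {J : Set (Fin D.rank)} {l : List (Fin D.rank)} (hl : ∀ k ∈ l, k ∈ J)
    {g : GL D.Idx K} (hg : g ∈ torusK hF K J) :
    (nW D K l)⁻¹ * g * nW D K l ∈ torusK hF K J := by
  induction l generalizing g with
  | nil => simpa [nW_nil] using hg
  | cons j l ih =>
    rw [nW_cons, show (nS D K j * nW D K l)⁻¹ * g * (nS D K j * nW D K l) =
      (nW D K l)⁻¹ * ((nS D K j)⁻¹ * g * nS D K j) * nW D K l by group]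
    exact ih (fun k hk => hl k (by simp [hk])) (nS_conj_torusK' hF hC (hl j (by simp)) hg)

theorem deletionK {J : Set (Fin D.rank)} : ∀ (l : List (Fin D.rank)), (∀ k ∈ l, k ∈ J) →
    ∀ (r : Fin D.nroots), D.nroots / 2 ≤ r.val → (sW D l r).val < D.nroots / 2 →
    ∃ (a b : List (Fin D.rank)) (j : Fin D.rank), l = a ++ j :: b ∧
      ∃ h ∈ torusK hF K J, nW D K l * nU D r.val 1 = nW D K (a ++ b) * h := by
  intro l
  induction l with
  | nil => intro _ r hr h; rw [sW_nil, Equiv.Perm.one_apply] at h; omega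
  | cons j l ih =>
    intro hl r hr h
    have hl' : ∀ k ∈ l, k ∈ J := fun k hk => hl k (by simp [hk])
    by_cases hneg : (sW D l r).val < D.nroots / 2
    · obtain ⟨a, b, k, rfl, hh, hmem, he⟩ := ih hl' r hr hneg
      exact ⟨j :: a, b, k, rfl, hh, hmem, by
        rw [nW_cons, mul_assoc, he, List.cons_append, nW_cons, mul_assoc]⟩
    · have hp : (sW D l r).val = D.simple j.val := by
        by_contra hne
        have := hF.refl_pos j.val j.isLt _ (sW D l r).isLt (by omega) hne
        rw [sW_cons, Equiv.Perm.mul_apply, hF.sP_val] at h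
        omega
      obtain ⟨e, he, hc⟩ := hF.nW_conj_nU (F := K) l r
      have h1 := hc 1
      rw [hp, mul_one] at h1
      have hk : nS D K j * nU D (D.simple j.val) (e : K) ∈ torusK hF K J := by
        rcases he with rfl | rfl
        · simpa [nS] using nS_sq_torusK hF hC (K := K) (hl j (by simp))
        · simp only [nS, Int.cast_neg, Int.cast_one, ← hF.nU_inv (hF.simple_lt' j.isLt),
            mul_inv_cancel]
          exact one_mem _
      refine ⟨[], l, j, rfl, _, nW_conj_torusK hF hC hl' hk, ?_⟩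
      rw [nW_cons, List.nil_append, ← h1]
      group

theorem nW_mem_torusK {J : Set (Fin D.rank)} {l : List (Fin D.rank)} (hlJ : ∀ k ∈ l, k ∈ J)
    (h : sW D l = 1) : nW D K l ∈ torusK hF K J := by
  suffices ∀ (m : ℕ) (l : List (Fin D.rank)), l.length = m → (∀ k ∈ l, k ∈ J) → sW D l = 1 →
      nW D K l ∈ torusK hF K J from this _ l rfl hlJ h
  intro m
  induction m using Nat.strong_induction_on with
  | _ m ih =>
    intro l hm hlJ hl
    rcases List.eq_nil_or_concat l with rfl | ⟨l', i, rfl⟩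
    · rw [nW_nil]; exact one_mem _
    rw [List.concat_eq_append] at hl hm hlJ ⊢
    rw [sW_append, sW_cons, sW_nil, mul_one] at hl
    have hl' : sW D l' = sP D i := by
      rw [eq_inv_of_mul_eq_one_left hl, inv_eq_of_mul_eq_one_right (hF.sP_sq i)]
    have hneg : (sW D l' (hF.simpleFin i)).val < D.nroots / 2 := by
      rw [hl', hF.sP_simple]
      have h1 := hF.negFin_pos (hF.simpleFin i)
      have h2 : D.nroots / 2 ≤ (hF.simpleFin i).val := (hF.simple_lt i.val i.isLt).1
      omega
    obtain ⟨a, b, j, e, hh, hmem, heq⟩ := deletionK hF hC (K := K) l'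
      (fun k hk => hlJ k (by simp [hk])) (hF.simpleFin i) (hF.simple_lt i.val i.isLt).1 hneg
    rw [nW_append, nW_cons, nW_nil, mul_one]
    show nW D K l' * nU D (hF.simpleFin i).val 1 ∈ _
    rw [heq]
    refine mul_mem (ih (a ++ b).length ?_ _ rfl ?_ ?_) hmem
    · rw [← hm, e]; simp
    · intro k hk
      refine hlJ k (List.mem_append_left _ ?_)
      rw [e]
      rcases List.mem_append.1 hk with h | h <;> simp [h]
    · have h1 := hF.permAct_nW (F := K) (l' ++ [i])
      rw [nW_append, nW_cons, nW_nil, mul_one] at h1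
      have h2 := hF.permAct_mul (hF.permAct_nW (F := K) (a ++ b))
        (hF.permAct_diagonal (torusK_le hF hC J hmem))
      rw [mul_one, ← heq] at h2
      rw [← hF.permAct_unique h1 h2, sW_append, sW_cons, sW_nil, mul_one, hl', hF.sP_sq]

theorem nW_inv {J : Set (Fin D.rank)} : ∀ {l : List (Fin D.rank)}, (∀ k ∈ l, k ∈ J) →
    ∃ h ∈ torusK hF K J, (nW D K l)⁻¹ = nW D K l.reverse * h := by
  intro l
  induction l with
  | nil => exact fun _ => ⟨1, one_mem _, by simp [nW_nil]⟩
  | cons j l ih =>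
    intro hl
    have hj : j ∈ J := hl j (by simp)
    obtain ⟨h, hh, e⟩ := ih fun k hk => hl k (by simp [hk])
    refine ⟨(nS D K j)⁻¹ * h * nS D K j * (nS D K j * nS D K j)⁻¹,
      mul_mem (nS_conj_torusK' hF hC hj hh) (inv_mem (nS_sq_torusK hF hC hj)), ?_⟩
    rw [nW_cons, mul_inv_rev, e, List.reverse_cons, nW_append, nW_cons, nW_nil]
    group

theorem inv_mul_mem_torusK {J : Set (Fin D.rank)} {l l' : List (Fin D.rank)}
    (hl : ∀ k ∈ l, k ∈ J) (hl' : ∀ k ∈ l', k ∈ J) (h : sW D l = sW D l') :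
    (nW D K l)⁻¹ * nW D K l' ∈ torusK hF K J := by
  obtain ⟨t, ht, e⟩ := nW_inv hF hC (K := K) hl
  have hk : nW D K (l.reverse ++ l') ∈ torusK hF K J := by
    refine nW_mem_torusK hF hC (fun k hk => ?_) (by rw [sW_append, hF.sW_reverse, h, inv_mul_cancel])
    rcases List.mem_append.1 hk with hk | hk
    · exact hl k (List.mem_reverse.1 hk)
    · exact hl' k hk
  rw [e, show nW D K l.reverse * t * nW D K l' =
    nW D K (l.reverse ++ l') * ((nW D K l')⁻¹ * t * nW D K l') by rw [nW_append]; group]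
  exact mul_mem hk (nW_conj_torusK hF hC hl' ht)

section Data

variable [Fintype K] [DecidableEq K] (p : ℕ) [Fact p.Prime] [CharP K p]

local notation "𝔻" => chevData hF hC p (K := K)

theorem coe_chev_T (g : ↥(D.group K)) :
    g ∈ (𝔻).T ↔ (g : GL D.Idx K) ∈ D.diagonalSubgroup K := Iff.rfl

/-- The torus element with the given coordinates. -/
def torusHom : (Fin D.rank → Kˣ) →* (𝔻).T :=
  MonoidHom.mk' (fun c => ⟨⟨hT D fun i => if h : i < D.rank then c ⟨i, h⟩ else 1,
      hF.diagonal_le_group (hF.mem_diagonal_iff.2 ⟨_, rfl⟩)⟩, hF.mem_diagonal_iff.2 ⟨_, rfl⟩⟩)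
    fun a b => Subtype.ext (Subtype.ext (by
      show hT D _ = hT D _ * hT D _
      rw [← hF.hT_mul]
      congr 1
      funext i
      split_ifs <;> simp))

theorem coe_torusHom (c : ℕ → Kˣ) :
    (((torusHom hF hC p (K := K) fun i => c i.val : (𝔻).T) : ↥(D.group K)) : GL D.Idx K) =
      hT D c := by
  show hT D _ = hT D c
  refine dU_congr fun s _ => Finset.prod_congr rfl fun i hi => ?_
  simp only [dif_pos (Finset.mem_range.1 hi)]

theorem torusHom_bij (hT1 : TorusFree D K) : Function.Bijective (torusHom hF hC p (K := K)) := by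
  refine ⟨(injective_iff_map_eq_one _).2 fun c hc => funext fun i => ?_, fun t => ?_⟩
  · have := hT1 _ (congrArg (fun t : (𝔻).T => ((t : ↥(D.group K)) : GL D.Idx K)) hc) i.val i.isLt
    rwa [dif_pos i.isLt] at this
  · obtain ⟨c, hc⟩ := hF.mem_diagonal_iff.1 t.2
    exact ⟨fun i => c i.val, Subtype.ext (Subtype.ext ((coe_torusHom hF hC p c).trans hc.symm))⟩

theorem torusHom_single (i : Fin D.rank) (u : Kˣ) :
    torusHom hF hC p (K := K) (Pi.mulSingle i u) = (𝔻).hT' i u := by
  refine Subtype.ext (Subtype.ext ?_)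
  show hT D _ = hU D (D.simple i.val) (u : K)
  rw [hF.hU_simple i.isLt, hT]
  refine dU_congr fun s _ => ?_
  rw [Finset.prod_eq_single i.val]
  · rw [dif_pos i.isLt, Fin.eta, Pi.mulSingle_eq_same]
  · intro j hj hne
    rw [dif_pos (Finset.mem_range.1 hj),
      Pi.mulSingle_eq_of_ne (fun e => hne (congrArg Fin.val e)), one_zpow]
  · intro h; exact absurd (Finset.mem_range.2 i.isLt) h

/-- The coordinates of the torus. -/
def torusEquiv (hT1 : TorusFree D K) : (Fin D.rank → Kˣ) ≃* (𝔻).T :=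
  MulEquiv.ofBijective _ (torusHom_bij hF hC p hT1)

theorem character_torusHom {A : Type*} [CommMonoid A] (ψ : (𝔻).T →* A) (c : Fin D.rank → Kˣ) :
    ψ (torusHom hF hC p c) = ∏ i, ψ ((𝔻).hT' i (c i)) := by
  rw [← MonoidHom.comp_apply]
  conv_lhs => rw [← Finset.univ_prod_mulSingle c]
  rw [map_prod]
  simp only [MonoidHom.comp_apply, torusHom_single]

open Classical in
/-- The length of the Weyl group element of a monomial matrix. -/
def chevRk (g : ↥(D.group K)) : ℕ :=
  if h : (g : GL D.Idx K) ∈ D.monomialSubgroup K then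
    flipNum (hF.weylHom ⟨(g : GL D.Idx K), h⟩) else 0

theorem chevRk_eq {g : ↥(D.group K)} {σ : Equiv.Perm (Fin D.nroots)}
    (h : (g : GL D.Idx K) ∈ D.monomialSubgroup K) (hσ : PermAct (g : GL D.Idx K) σ) :
    chevRk hF g = flipNum σ := by
  rw [chevRk, dif_pos h, hF.weylHom_eq (g := (⟨(g : GL D.Idx K), h⟩ : ↥(D.monomialSubgroup K))) hσ]

omit hC in
theorem permAct_symm_neg {g : GL D.Idx K} {σ : Equiv.Perm (Fin D.nroots)}
    (hg : g ∈ D.monomialSubgroup K) (hσ : PermAct g σ) (s : Fin D.nroots) :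
    σ⁻¹ (hF.negFin s) = hF.negFin (σ⁻¹ s) := by
  obtain ⟨l, h, hh, rfl⟩ := hF.exists_nW hg
  have := hF.permAct_unique hσ (hF.permAct_mul (hF.permAct_nW l) (hF.permAct_diagonal hh))
  rw [mul_one] at this
  rw [this, ← hF.sW_reverse, hF.sW_neg]

theorem conj_x_mem_iff {g : GL D.Idx K} {σ : Equiv.Perm (Fin D.nroots)}
    (hg : g ∈ D.monomialSubgroup K) (hσ : PermAct g σ) (r : Fin D.nroots) :
    (∀ a : K, g⁻¹ * xU D r.val a * g ∈ D.posUnipotent K) ↔ D.nroots / 2 ≤ (σ⁻¹ r).val := by
  obtain ⟨c, hc0, hc, -⟩ := hF.permAct_inv hg hσ r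
  simp only [inv_inv] at hc
  refine ⟨fun h => ?_, fun h a => ?_⟩
  · by_contra hn
    have h1 := h 1
    rw [hc, hF.posUnipotent_eq] at h1
    have h2 : xU D (σ⁻¹ r).val (c * 1) ∈ D.borelSubgroup K ⊓ D.negUnipotent K := by
      refine ⟨hF.pos_le_borel h1, ?_⟩
      rw [hF.negUnipotent_eq]
      exact xU_mem_rootClosure (P := fun s => s < D.nroots / 2) (σ⁻¹ r).isLt (Nat.lt_of_not_le hn) _
    rw [hF.borel_inf_neg, Subgroup.mem_bot] at h2
    exact hc0 (by simpa using hF.xU_eq_one (σ⁻¹ r).isLt h2)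
  · rw [hc, hF.posUnipotent_eq]
    exact xU_mem_rootClosure (P := fun s => D.nroots / 2 ≤ s) (σ⁻¹ r).isLt h _

theorem up_iff {i : Fin D.rank} {m : ↥(D.group K)}
    (hm : (m : GL D.Idx K) ∈ D.monomialSubgroup K) {σ : Equiv.Perm (Fin D.nroots)}
    (hσ : PermAct (m : GL D.Idx K) σ) :
    (𝔻).Up i m ↔ D.nroots / 2 ≤ (σ⁻¹ (hF.simpleFin i)).val :=
  conj_x_mem_iff hF hC hm hσ (hF.simpleFin i)

theorem down_iff {i : Fin D.rank} {m : ↥(D.group K)}
    (hm : (m : GL D.Idx K) ∈ D.monomialSubgroup K) {σ : Equiv.Perm (Fin D.nroots)}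
    (hσ : PermAct (m : GL D.Idx K) σ) :
    (𝔻).Down i m ↔ (σ⁻¹ (hF.simpleFin i)).val < D.nroots / 2 := by
  rw [← hF.negFin_pos, ← permAct_symm_neg hF hm hσ]
  exact conj_x_mem_iff hF hC hm hσ (hF.negFin (hF.simpleFin i))

omit hC in
theorem flipNum_sP_mul (i : Fin D.rank) (σ : Equiv.Perm (Fin D.nroots))
    (hneg : ∀ s, σ⁻¹ (hF.negFin s) = hF.negFin (σ⁻¹ s))
    (h : D.nroots / 2 ≤ (σ⁻¹ (hF.simpleFin i)).val) :
    flipNum σ < flipNum (sP D i * σ) := by
  unfold flipNum
  refine Finset.card_lt_card ((Finset.ssubset_iff_of_subset fun r hr => ?_).2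
    ⟨σ⁻¹ (hF.simpleFin i), ?_, ?_⟩)
  · rw [Finset.mem_filter] at hr ⊢
    simp only [Finset.mem_univ, true_and, Equiv.Perm.mul_apply] at hr ⊢
    refine ⟨hr.1, ?_⟩
    by_contra hc
    have hne : σ r ≠ hF.negFin (hF.simpleFin i) := fun e => by
      have h1 := congrArg (σ⁻¹ : Equiv.Perm (Fin D.nroots)) e
      rw [Equiv.Perm.coe_inv, Equiv.symm_apply_apply, ← Equiv.Perm.coe_inv, hneg] at h1
      have := hF.negFin_pos (σ⁻¹ (hF.simpleFin i))
      rw [← h1] at this
      omega
    have h2 := hF.refl_pos i.val i.isLt (sP D i (σ r)).val (sP D i (σ r)).isLt (by omega)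
      (fun e => hne (by
        have e' : sP D i (σ r) = hF.simpleFin i := Fin.ext e
        have := congrArg (sP D i) e'
        rw [← Equiv.Perm.mul_apply, hF.sP_sq, Equiv.Perm.one_apply, hF.sP_simple] at this
        exact this))
    rw [← hF.sP_val, ← Equiv.Perm.mul_apply, hF.sP_sq, Equiv.Perm.one_apply] at h2
    omega
  · rw [Finset.mem_filter]
    simp only [Finset.mem_univ, true_and, Equiv.Perm.mul_apply,
      Equiv.Perm.coe_inv, Equiv.apply_symm_apply]
    refine ⟨by simpa using h, ?_⟩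
    rw [hF.sP_simple]
    have h1 := hF.negFin_pos (hF.simpleFin i)
    have h2 : D.nroots / 2 ≤ (hF.simpleFin i).val := (hF.simple_lt i.val i.isLt).1
    omega
  · rw [Finset.mem_filter]
    simp only [Finset.mem_univ, true_and, Equiv.Perm.coe_inv,
      Equiv.apply_symm_apply, not_and]
    intro _
    have h2 : D.nroots / 2 ≤ (hF.simpleFin i).val := (hF.simple_lt i.val i.isLt).1
    omega

/-- A Chevalley group has what the classification of modules uses. -/
def chevExt : (𝔻).Ext where
  T_le_N := fun t ht => (Subgroup.mem_sup_left ht : (t : GL D.Idx K) ∈ D.monomialSubgroup K)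
  rk := chevRk hF
  rk_T m hm t ht := by
    obtain ⟨σ, hσ⟩ := hF.exists_permAct hm
    have ht' : ((t : GL D.Idx K)) ∈ D.diagonalSubgroup K := ht
    have hmt : ((m * t : ↥(D.group K)) : GL D.Idx K) ∈ D.monomialSubgroup K :=
      mul_mem (hm : (m : GL D.Idx K) ∈ D.monomialSubgroup K) (Subgroup.mem_sup_left ht')
    have := hF.permAct_mul hσ (hF.permAct_diagonal ht')
    rw [mul_one] at this
    rw [chevRk_eq hF hC hmt this, chevRk_eq hF hC hm hσ]
  side m hm i := by
    obtain ⟨σ, hσ⟩ := hF.exists_permAct hm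
    rw [up_iff hF hC p hm hσ, down_iff hF hC p hm hσ]
    exact le_or_gt _ _
  up_rk m hm i hu := by
    obtain ⟨σ, hσ⟩ := hF.exists_permAct hm
    rw [up_iff hF hC p hm hσ] at hu
    have hnm : nS D K i * (m : GL D.Idx K) ∈ D.monomialSubgroup K := mul_mem (hF.nS_mem i) hm
    rw [chevRk_eq hF hC hm hσ,
      chevRk_eq hF hC (g := (𝔻).n i * m) hnm (hF.permAct_mul (hF.permAct_nS i) hσ)]
    exact flipNum_sP_mul hF i σ (permAct_symm_neg hF hm hσ) hu
  eqv m hm m' hm' a ha c hc e := by
    have h := hF.bruhat_eqv hC (K := K) (Subgroup.one_mem _) ha hm' hm (Subgroup.one_mem _) hc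
      (show 1 * (m' : GL D.Idx K) * 1 = (a : GL D.Idx K) * m * c by
        rw [one_mul, mul_one, e]; rfl)
    show (m : GL D.Idx K)⁻¹ * m' ∈ D.diagonalSubgroup K
    simpa using inv_mem h
  w0 := ⟨hF.exists_opposite.choose, hF.monomial_le_group hF.exists_opposite.choose_spec.1⟩
  w0_mem := hF.exists_opposite.choose_spec.1
  w0_conj g := by
    have h : (D.posUnipotent K).map
        (MulAut.conj (hF.exists_opposite (F := K)).choose).toMonoidHom =
          rootClosure D K (· < D.nroots / 2) :=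
      (hF.exists_opposite (F := K)).choose_spec.2.trans hF.negUnipotent_eq
    show (g : GL D.Idx K) ∈ D.posUnipotent K ↔ _ * (g : GL D.Idx K) * _ ∈
      rootClosure D K (· < D.nroots / 2)
    conv_rhs => rw [← h]
    exact (Subgroup.mem_map_iff_mem
      (f := (MulAut.conj (hF.exists_opposite (F := K)).choose).toMonoidHom)
      (MulAut.conj (hF.exists_opposite (F := K)).choose).injective).symm

/-- A character of the torus trivial on some coroots extends to the subgroup of `N` they give. -/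
theorem hasLevi {k : Type*} [Field k] [CharP k p] : (𝔻).HasLevi k := by
  intro ψ J hψ
  classical
  have hker : ∀ t : (𝔻).T, ((t : ↥(D.group K)) : GL D.Idx K) ∈ torusK hF K J → ψ t = 1 := by
    rintro t ⟨c, hc, hc1⟩
    have e : t = torusHom hF hC p fun i => c i.val :=
      Subtype.ext (Subtype.ext (hc.trans (coe_torusHom hF hC p c).symm))
    rw [e, character_torusHom]
    refine Finset.prod_eq_one fun i _ => ?_
    by_cases hi : i ∈ J
    · exact hψ i hi _
    · rw [hc1 i hi, map_one, map_one]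
  -- conjugation by a word in `J` fixes the character
  have hstep : ∀ j ∈ J, ∀ t t' : (𝔻).T, ((t' : ↥(D.group K)) : GL D.Idx K) =
      nS D K j * (t : ↥(D.group K)) * (nS D K j)⁻¹ → ψ t' = ψ t := by
    intro j hj t t' e
    obtain ⟨c, hc⟩ := hF.mem_diagonal_iff.1 t.2
    obtain ⟨c', e', hc'⟩ := nS_conj_coord hF j c
    rw [Subgroup.subtype_apply] at hc
    rw [hc, e'] at e
    rw [show t = torusHom hF hC p fun i => c i.val from
        Subtype.ext (Subtype.ext (hc.trans (coe_torusHom hF hC p c).symm)),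
      show t' = torusHom hF hC p fun i => c' i.val from
        Subtype.ext (Subtype.ext (e.trans (coe_torusHom hF hC p c').symm)),
      character_torusHom, character_torusHom]
    refine Finset.prod_congr rfl fun i _ => ?_
    by_cases hij : i = j
    · rw [hij, hψ j hj, hψ j hj]
    · rw [hc' i.val fun e => hij (Fin.ext e)]
  have hword : ∀ (l : List (Fin D.rank)), (∀ j ∈ l, j ∈ J) → ∀ t t' : (𝔻).T,
      ((t' : ↥(D.group K)) : GL D.Idx K) = (nW D K l)⁻¹ * (t : ↥(D.group K)) * nW D K l →
      ψ t' = ψ t := by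
    intro l
    induction l with
    | nil =>
      intro _ t t' e
      rw [nW_nil, inv_one, one_mul, mul_one] at e
      rw [show t' = t from Subtype.ext (Subtype.ext e)]
    | cons j l ih =>
      intro hl t t' e
      let t₁ : (𝔻).T := ⟨⟨(nS D K j)⁻¹ * (t : ↥(D.group K)) * nS D K j,
        hF.diagonal_le_group (hF.nS_conj_hT' j t.2)⟩, hF.nS_conj_hT' j t.2⟩
      have h1 : ψ t = ψ t₁ := hstep j (hl j (by simp)) t₁ t (by
        show _ = nS D K j * ((nS D K j)⁻¹ * _ * nS D K j) * (nS D K j)⁻¹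
        group)
      rw [h1]
      refine ih (fun k hk => hl k (by simp [hk])) t₁ t' ?_
      rw [e, nW_cons]
      show _ = (nW D K l)⁻¹ * ((nS D K j)⁻¹ * _ * nS D K j) * nW D K l
      group
  let W : List (Fin D.rank) → ↥(D.group K) := fun l =>
    ⟨nW D K l, hF.monomial_le_group (hF.nW_mem l)⟩
  have hWnil : W [] = 1 := Subtype.ext nW_nil
  -- conjugate of a torus element by a word
  have hconj : ∀ (l : List (Fin D.rank)) (t : (𝔻).T), (W l)⁻¹ * t * W l ∈ (𝔻).T := fun l t =>
    hF.nW_conj_hT' l t.2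
  let NK : Subgroup ↥(D.group K) :=
    { carrier := {g | ∃ l, (∀ j ∈ l, j ∈ J) ∧ ∃ t : (𝔻).T, g = W l * t}
      one_mem' := ⟨[], by simp, 1, by rw [hWnil, Subgroup.coe_one, one_mul]⟩
      mul_mem' := by
        rintro _ _ ⟨l, hl, t, rfl⟩ ⟨m, hm, s, rfl⟩
        refine ⟨l ++ m, fun j hj => (List.mem_append.1 hj).elim (hl j) (hm j),
          ⟨_, hconj m t⟩ * s, ?_⟩
        rw [show W (l ++ m) = W l * W m from Subtype.ext (nW_append l m), Subgroup.coe_mul]
        group
      inv_mem' := by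
        rintro _ ⟨l, hl, t, rfl⟩
        obtain ⟨h, hh, e⟩ := nW_inv hF hC (K := K) hl
        have hd := torusK_le hF hC J hh
        let s : (𝔻).T := ⟨⟨h, hF.diagonal_le_group hd⟩, hd⟩
        refine ⟨l.reverse, fun j hj => hl j (List.mem_reverse.1 hj),
          ⟨_, hconj l.reverse t⁻¹⟩ * s, ?_⟩
        rw [mul_inv_rev, show (W l)⁻¹ = W l.reverse * (s : ↥(D.group K)) from Subtype.ext e]
        simp only [Subgroup.coe_mul, Subgroup.coe_inv]
        group }
  have key : ∀ {l l' : List (Fin D.rank)} (t t' : (𝔻).T), (∀ j ∈ l, j ∈ J) → (∀ j ∈ l', j ∈ J) →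
      W l * t = W l' * t' → ψ t = ψ t' := by
    intro l l' t t' hl hl' e
    have e' : nW D K l * (t : ↥(D.group K)) = nW D K l' * (t' : ↥(D.group K)) :=
      congrArg Subtype.val e
    have hs : sW D l = sW D l' := by
      have h1 := hF.permAct_mul (hF.permAct_nW (F := K) l) (hF.permAct_diagonal t.2)
      have h2 := hF.permAct_mul (hF.permAct_nW (F := K) l') (hF.permAct_diagonal t'.2)
      simp only [mul_one, Subgroup.subtype_apply] at h1 h2
      rw [e'] at h1
      exact hF.permAct_unique h1 h2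
    rw [← mul_inv_eq_one, ← map_inv, ← map_mul]
    refine hker _ ?_
    have := inv_mul_mem_torusK hF hC (K := K) hl hl' hs
    rw [show (nW D K l)⁻¹ * nW D K l' =
      (t : ↥(D.group K)) * ((t' : ↥(D.group K)) : GL D.Idx K)⁻¹ by
        rw [eq_mul_inv_iff_mul_eq, mul_assoc, ← e', inv_mul_cancel_left]] at this
    exact this
  choose L hL T' hT' using fun g : NK => g.2
  let χ : NK →* kˣ := MonoidHom.mk' (fun g => ψ (T' g)) fun a b => by
    rw [← hword (L b) (hL b) (T' a) ⟨_, hconj (L b) (T' a)⟩ rfl, ← map_mul]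
    refine key _ _ (hL (a * b)) (l' := L a ++ L b)
      (fun j hj => (List.mem_append.1 hj).elim (hL a j) (hL b j)) ?_
    rw [← hT' (a * b), Subgroup.coe_mul, hT' a, hT' b,
      show W (L a ++ L b) = W (L a) * W (L b) from Subtype.ext (nW_append _ _), Subgroup.coe_mul]
    group
  have hval : ∀ (g : NK) (l : List (Fin D.rank)), (∀ j ∈ l, j ∈ J) → ∀ t : (𝔻).T,
      (g : ↥(D.group K)) = W l * t → χ g = ψ t := fun g l hl t e =>
    key _ _ (hL g) hl ((hT' g).symm.trans e)
  refine ⟨NK, χ, fun t ht => ⟨[], by simp, ⟨t, ht⟩, by rw [hWnil, one_mul]⟩, ?_, ?_, ?_, ?_⟩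
  · rintro _ ⟨l, -, t, rfl⟩
    exact mul_mem (hF.nW_mem l : (W l : GL D.Idx K) ∈ D.monomialSubgroup K)
      (Subgroup.mem_sup_left t.2)
  · exact fun t => hval _ [] (by simp) t
      ((one_mul _).symm.trans (congrArg (· * (t : ↥(D.group K))) hWnil.symm))
  · intro i hi
    have e : (𝔻).n i = W [i] := Subtype.ext (by
      show nS D K i = nW D K [i]
      rw [nW_cons, nW_nil, mul_one])
    have hn : (𝔻).n i ∈ NK := ⟨[i], by simpa using hi, 1, by rw [Subgroup.coe_one, mul_one, e]⟩
    exact ⟨hn, (hval ⟨_, hn⟩ [i] (by simpa using hi) 1 (by rw [Subgroup.coe_one, mul_one, ← e])).trans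
      (map_one ψ)⟩
  · rintro z ⟨l, hl, t, rfl⟩ i hi a
    have hσ : PermAct (nW D K l * ((t : ↥(D.group K)) : GL D.Idx K)) (sW D l) := by
      have := hF.permAct_mul (hF.permAct_nW (F := K) l) (hF.permAct_diagonal t.2)
      rwa [mul_one] at this
    have hm : nW D K l * ((t : ↥(D.group K)) : GL D.Idx K) ∈ D.monomialSubgroup K :=
      mul_mem (hF.nW_mem l) (Subgroup.mem_sup_left t.2)
    obtain ⟨c, -, hc, -⟩ := hF.permAct_inv hm hσ (hF.negFin (hF.simpleFin i))
    simp only [inv_inv] at hc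
    show (nW D K l * ((t : ↥(D.group K)) : GL D.Idx K))⁻¹ * xU D (D.neg (D.simple i.val)) a *
      (nW D K l * ((t : ↥(D.group K)) : GL D.Idx K)) ∈ rootClosure D K (· < D.nroots / 2)
    rw [show D.neg (D.simple i.val) = (hF.negFin (hF.simpleFin i)).val from rfl, hc]
    refine xU_mem_rootClosure (Fin.isLt _) ?_ _
    by_contra hpos
    have h1 := hF.co_nonneg _ (Fin.isLt _) (Nat.le_of_not_lt hpos) i.val i.isLt
    rw [← hF.sW_reverse, co_sW_off hF hC (fun j hj => hl j (List.mem_reverse.1 hj)) _ hi] at h1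
    have h2 : co (hF.negFin (hF.simpleFin i)).val i.val = -1 := by
      show co (D.neg (D.simple i.val)) i.val = -1
      rw [hF.co_neg _ (hF.simple_lt' i.isLt) _ i.isLt, hF.co_simple i.val i.isLt i.val i.isLt,
        if_pos rfl]
    omega

open CfsgLib.Blocks in
attribute [local instance] CfsgLib.Blocks.resField in
/-- A Chevalley group with free torus has `q ^ l` classes of elements of order prime to `p`. -/
theorem card_regular_classes (hT1 : TorusFree D K) :
    Nat.card {c : ConjClasses ↥(D.group K) //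
      ∃ g : ↥(D.group K), ConjClasses.mk g = c ∧ ¬ p ∣ orderOf g} = Fintype.card K ^ D.rank := by
  classical
  have hp : p.Prime := Fact.out
  obtain ⟨M, hM⟩ := CfsgLib.Blocks.exists_isPModular hp
  haveI : M.IsMaximal := hM.2.1
  haveI : CharP (Res M) p := res_charP M hM
  haveI := res_isAlgClosed M
  letI : Fintype ↥(D.group K) := Fintype.ofFinite _
  rw [card_regular_classes_eq_weights (𝔻) (chevExt hF hC p) hM
    (hasLevi hF hC p)]
  set k := Res M
  let ev : ((Fin D.rank → Kˣ) →* kˣ) → Fin D.rank → (Kˣ →* kˣ) := fun χ i =>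
    χ.comp (MonoidHom.mulSingle (fun _ => Kˣ) i)
  let Q : Fin D.rank → Type _ := fun _ =>
    {x : (Kˣ →* kˣ) × Prop // x.2 → x.1 = 1}
  let e : {x : ((𝔻).T →* kˣ) × Set (Fin D.rank) //
      ∀ i ∈ x.2, ∀ u, x.1 ((𝔻).hT' i u) = 1} ≃ ((i : Fin D.rank) → Q i) :=
    { toFun := fun x i => ⟨(x.1.1.comp ((𝔻).hT' i), i ∈ x.1.2), fun h => MonoidHom.ext fun u =>
        x.2 i h u⟩
      invFun := fun f =>
        ⟨((MonoidHom.mk' (fun c : Fin D.rank → Kˣ => ∏ i, (f i).1.1 (c i)) fun a b => by
            simp [Finset.prod_mul_distrib]).comp (torusEquiv hF hC p hT1).symm.toMonoidHom,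
          {i | (f i).1.2}), fun i hi u => by
            show ∏ j, (f j).1.1 ((torusEquiv hF hC p hT1).symm ((𝔻).hT' i u) j) = 1
            rw [← torusHom_single hF hC p, show (torusEquiv hF hC p hT1).symm
              (torusHom hF hC p (Pi.mulSingle i u)) = Pi.mulSingle i u from
                (torusEquiv hF hC p hT1).symm_apply_apply _]
            refine Finset.prod_eq_one fun j _ => ?_
            by_cases hij : j = i
            · subst hij
              rw [(f j).2 hi, MonoidHom.one_apply]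
            · rw [Pi.mulSingle_eq_of_ne hij, map_one]⟩
      left_inv := fun x => by
        refine Subtype.ext (Prod.ext (MonoidHom.ext fun t => ?_) rfl)
        obtain ⟨c, rfl⟩ := (torusEquiv hF hC p hT1).surjective t
        show ∏ j, x.1.1 ((𝔻).hT' j ((torusEquiv hF hC p hT1).symm
          ((torusEquiv hF hC p hT1) c) j)) = x.1.1 (torusHom hF hC p c)
        rw [MulEquiv.symm_apply_apply, character_torusHom]
      right_inv := fun f => funext fun i => Subtype.ext (Prod.ext (MonoidHom.ext fun u => by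
        show ∏ j, (f j).1.1 ((torusEquiv hF hC p hT1).symm ((𝔻).hT' i u) j) = (f i).1.1 u
        rw [← torusHom_single hF hC p, show (torusEquiv hF hC p hT1).symm
          (torusHom hF hC p (Pi.mulSingle i u)) = Pi.mulSingle i u from
            (torusEquiv hF hC p hT1).symm_apply_apply _,
          Finset.prod_eq_single i (fun j _ hj => by rw [Pi.mulSingle_eq_of_ne hj, map_one])
            (by simp), Pi.mulSingle_eq_same]) rfl) }
  have hQ : Nat.card {x : (Kˣ →* kˣ) × Prop // x.2 → x.1 = 1} = Fintype.card K := by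
    have hq : 1 < Fintype.card K := Fintype.one_lt_card
    have : NeZero ((Monoid.exponent Kˣ : ℕ) : k) := by
      refine ⟨fun h => ?_⟩
      rw [IsCyclic.exponent_eq_card, Nat.card_eq_fintype_card, Fintype.card_units,
        Nat.cast_sub hq.le, SplitData.cast_card_eq_zero (𝔻)] at h
      simp at h
    obtain ⟨E⟩ := CommGroup.monoidHom_mulEquiv_of_hasEnoughRootsOfUnity Kˣ k
    have hA : Nat.card (Kˣ →* kˣ) = Fintype.card K - 1 := by
      rw [Nat.card_congr E.toEquiv, Nat.card_eq_fintype_card, Fintype.card_units]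
    haveI : Finite (Kˣ →* kˣ) := Nat.finite_of_card_ne_zero (by rw [hA]; omega)
    let g : {x : (Kˣ →* kˣ) × Prop // x.2 → x.1 = 1} ≃ Option (Kˣ →* kˣ) :=
      { toFun := fun x => if x.1.2 then none else some x.1.1
        invFun := fun o => match o with
          | none => ⟨(1, True), fun _ => rfl⟩
          | some f => ⟨(f, False), False.elim⟩
        left_inv := fun ⟨⟨f, b⟩, hb⟩ => by
          by_cases h : b
          · obtain rfl : f = 1 := hb h
            simp [h]
          · simp [h]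
        right_inv := fun o => by cases o <;> simp }
    rw [Nat.card_congr g, Finite.card_option, hA]
    omega
  rw [Nat.card_congr e, Nat.card_pi, Finset.prod_congr rfl (fun i _ => hQ), Finset.prod_const,
    Finset.card_univ, Fintype.card_fin]

end Data

end CfsgLib.DefectZero
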