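import Cfsg.Agent.Lib.DefectZero.CurtisRichen.Chevalley
import Cfsg.Agent.Lib.Chev.All

/-!
# The tori of the simply connected groups that coincide with the Chevalley groups
-/

set_option autoImplicit false

noncomputable section

namespace CfsgLib.DefectZero

open Cfsg.Lie CfsgLib.Chev

universe v

/-- An integral inverse of the Cartan matrix of G2, times 1. -/
def invG2 (k i : Fin chevG2.rank) : ℤ :=
  (([[2, 3], [1, 2]] : List (List ℤ)).getD k.val []).getD i.val 0

theorem invG2_spec : ∀ j i : Fin chevG2.rank,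
    ∑ k : Fin chevG2.rank, chevG2.cartan j.val (chevG2.simple k.val) * invG2 k i =
      if j = i then (1 : ℤ) else 0 := by
  decide +kernel

theorem torusFree_G2 {K : Type v} [Field K] [Fintype K] (h : (1 : ℕ).Coprime (Fintype.card K - 1)) :
    TorusFree chevG2 K :=
  torusFree_of_inverse DataG2.facts invG2 1 h (by simpa using invG2_spec)

/-- An integral inverse of the Cartan matrix of F4, times 1. -/
def invF4 (k i : Fin chevF4.rank) : ℤ :=
  (([[2, 3, 4, 2], [3, 6, 8, 4], [2, 4, 6, 3], [1, 2, 3, 2]] : List (List ℤ)).getD k.val []).getD i.val 0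

theorem invF4_spec : ∀ j i : Fin chevF4.rank,
    ∑ k : Fin chevF4.rank, chevF4.cartan j.val (chevF4.simple k.val) * invF4 k i =
      if j = i then (1 : ℤ) else 0 := by
  decide +kernel

theorem torusFree_F4 {K : Type v} [Field K] [Fintype K] (h : (1 : ℕ).Coprime (Fintype.card K - 1)) :
    TorusFree chevF4 K :=
  torusFree_of_inverse DataF4.facts invF4 1 h (by simpa using invF4_spec)

/-- An integral inverse of the Cartan matrix of E8, times 1. -/
def invE8 (k i : Fin chevE8.rank) : ℤ :=
  (([[4, 5, 7, 10, 8, 6, 4, 2], [5, 8, 10, 15, 12, 9, 6, 3], [7, 10, 14, 20, 16, 12, 8, 4], [10, 15, 20, 30, 24, 18, 12, 6], [8, 12, 16, 24, 20, 15, 10, 5], [6, 9, 12, 18, 15, 12, 8, 4], [4, 6, 8, 12, 10, 8, 6, 3], [2, 3, 4, 6, 5, 4, 3, 2]] : List (List ℤ)).getD k.val []).getD i.val 0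

theorem invE8_spec : ∀ j i : Fin chevE8.rank,
    ∑ k : Fin chevE8.rank, chevE8.cartan j.val (chevE8.simple k.val) * invE8 k i =
      if j = i then (1 : ℤ) else 0 := by
  decide +kernel

theorem torusFree_E8 {K : Type v} [Field K] [Fintype K] (h : (1 : ℕ).Coprime (Fintype.card K - 1)) :
    TorusFree chevE8 K :=
  torusFree_of_inverse DataE8.facts invE8 1 h (by simpa using invE8_spec)

/-- An integral inverse of the Cartan matrix of B2, times 2. -/
def invB2 (k i : Fin chevB2.rank) : ℤ :=
  (([[2, 2], [1, 2]] : List (List ℤ)).getD k.val []).getD i.val 0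

theorem invB2_spec : ∀ j i : Fin chevB2.rank,
    ∑ k : Fin chevB2.rank, chevB2.cartan j.val (chevB2.simple k.val) * invB2 k i =
      if j = i then (2 : ℤ) else 0 := by
  decide +kernel

theorem torusFree_B2 {K : Type v} [Field K] [Fintype K] (h : (2 : ℕ).Coprime (Fintype.card K - 1)) :
    TorusFree chevB2 K :=
  torusFree_of_inverse DataB2.facts invB2 2 h (by simpa using invB2_spec)

/-- An integral inverse of the Cartan matrix of D4, times 2. -/
def invD4 (k i : Fin chevD4.rank) : ℤ :=
  (([[2, 2, 1, 1], [2, 4, 2, 2], [1, 2, 2, 1], [1, 2, 1, 2]] : List (List ℤ)).getD k.val []).getD i.val 0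

theorem invD4_spec : ∀ j i : Fin chevD4.rank,
    ∑ k : Fin chevD4.rank, chevD4.cartan j.val (chevD4.simple k.val) * invD4 k i =
      if j = i then (2 : ℤ) else 0 := by
  decide +kernel

theorem torusFree_D4 {K : Type v} [Field K] [Fintype K] (h : (2 : ℕ).Coprime (Fintype.card K - 1)) :
    TorusFree chevD4 K :=
  torusFree_of_inverse DataD4.facts invD4 2 h (by simpa using invD4_spec)

/-- An integral inverse of the Cartan matrix of E7, times 2. -/
def invE7 (k i : Fin chevE7.rank) : ℤ :=
  (([[4, 4, 6, 8, 6, 4, 2], [4, 7, 8, 12, 9, 6, 3], [6, 8, 12, 16, 12, 8, 4], [8, 12, 16, 24, 18, 12, 6], [6, 9, 12, 18, 15, 10, 5], [4, 6, 8, 12, 10, 8, 4], [2, 3, 4, 6, 5, 4, 3]] : List (List ℤ)).getD k.val []).getD i.val 0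

theorem invE7_spec : ∀ j i : Fin chevE7.rank,
    ∑ k : Fin chevE7.rank, chevE7.cartan j.val (chevE7.simple k.val) * invE7 k i =
      if j = i then (2 : ℤ) else 0 := by
  decide +kernel

theorem torusFree_E7 {K : Type v} [Field K] [Fintype K] (h : (2 : ℕ).Coprime (Fintype.card K - 1)) :
    TorusFree chevE7 K :=
  torusFree_of_inverse DataE7.facts invE7 2 h (by simpa using invE7_spec)

/-- An integral inverse of the Cartan matrix of E6, times 3. -/
def invE6 (k i : Fin chevE6.rank) : ℤ :=
  (([[4, 3, 5, 6, 4, 2], [3, 6, 6, 9, 6, 3], [5, 6, 10, 12, 8, 4], [6, 9, 12, 18, 12, 6], [4, 6, 8, 12, 10, 5], [2, 3, 4, 6, 5, 4]] : List (List ℤ)).getD k.val []).getD i.val 0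

theorem invE6_spec : ∀ j i : Fin chevE6.rank,
    ∑ k : Fin chevE6.rank, chevE6.cartan j.val (chevE6.simple k.val) * invE6 k i =
      if j = i then (3 : ℤ) else 0 := by
  decide +kernel

theorem torusFree_E6 {K : Type v} [Field K] [Fintype K] (h : (3 : ℕ).Coprime (Fintype.card K - 1)) :
    TorusFree chevE6 K :=
  torusFree_of_inverse DataE6.facts invE6 3 h (by simpa using invE6_spec)

/-- The number of classes of elements of order prime to `p`. -/
theorem card_classes_of_torusFree {D : ChevalleyDatum} {K : Type v} [Field K] [Fintype K]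
    (hD : Good.{v} D) (p : ℕ) [Fact p.Prime] [CharP K p] (hT : TorusFree D K) :
    Nat.card {c : ConjClasses ↥(D.group K) //
      ∃ g : ↥(D.group K), ConjClasses.mk g = c ∧ ¬ p ∣ orderOf g} = Fintype.card K ^ D.rank := by
  classical
  obtain ⟨co, hF⟩ := hD.facts
  exact card_regular_classes hF hD.comm p hT

end CfsgLib.DefectZero
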