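import Cfsg.Agent.Lib.DefectZero.CurtisRichen.Basic
import Cfsg.Agent.Lib.FGS.FreeOverComplement

/-!
# The functions on `G` of given right character and weights in modules

* `exists_biFun`: a function on `N` of given right character extends to one on `G` fixed by `U`;
* `hecke_up`, `hecke_down`: the operators on these functions;
* `exists_eig`: every nonzero module has a vector of some weight `(ψ, J)`, with `J` admissible;
* `exists_eig_of_levi`: every admissible weight occurs in the functions on `G`.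
-/

set_option autoImplicit false
set_option linter.unusedSectionVars false
set_option linter.style.haveILetI false

noncomputable section

namespace CfsgLib.DefectZero.SplitData

variable {p : ℕ} {G : Type*} [Group G] [Fintype G] {F : Type*} [Field F] [Fintype F] [DecidableEq F]
  {ι : Type*} (D : SplitData p G F ι) {k : Type*} [Field k] [CharP k p] [Fact p.Prime] [CharP F p]

variable (G k) in
/-- The functions on `G` under left translation. -/
def fnRep : Representation k G (G → k) where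
  toFun g := LinearMap.funLeft k k fun h => g⁻¹ * h
  map_one' := by ext φ h; simp [LinearMap.funLeft_apply]
  map_mul' a b := by ext φ h; simp [LinearMap.funLeft_apply, mul_assoc]

theorem fnRep_apply (g h : G) (φ : G → k) : fnRep G k g φ h = φ (g⁻¹ * h) := rfl

/-- Right character `ψ⁻¹` on the Borel subgroup, and invariance by `U` on the left. -/
structure BiFun (ψ : D.T →* kˣ) (φ : G → k) : Prop where
  right : ∀ g, ∀ u ∈ D.U, ∀ t : D.T, φ (g * (u * t)) = ((ψ t)⁻¹ : kˣ) * φ g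
  left : ∀ u ∈ D.U, fnRep G k u φ = φ

namespace BiFun

variable {D : SplitData p G F ι} {ψ : D.T →* kˣ} {φ : G → k}

theorem left_apply (h : D.BiFun ψ φ) {u : G} (hu : u ∈ D.U) (g : G) : φ (u * g) = φ g := by
  have := congrFun (h.left u⁻¹ (inv_mem hu)) g
  rwa [fnRep_apply, inv_inv] at this

theorem right_U (h : D.BiFun ψ φ) (g : G) {u : G} (hu : u ∈ D.U) : φ (g * u) = φ g := by
  have := h.right g u hu 1
  simpa using this

theorem right_T (h : D.BiFun ψ φ) (g : G) (t : D.T) :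
    φ (g * (t : G)) = ((ψ t)⁻¹ : kˣ) * φ g := by
  simpa using h.right g 1 (one_mem _) t

theorem smul (h : D.BiFun ψ φ) (a : k) : D.BiFun ψ (a • φ) where
  right g u hu t := by
    simp only [Pi.smul_apply, smul_eq_mul, h.right g u hu t]; ring
  left u hu := by rw [map_smul, h.left u hu]

theorem hecke (h : D.BiFun ψ φ) (i : ι) : D.BiFun ψ (D.hecke (fnRep G k) i φ) where
  right g u hu t := by
    simp only [hecke_apply, Finset.sum_apply, fnRep_apply, Finset.mul_sum]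
    refine Finset.sum_congr rfl fun b _ => ?_
    rw [← mul_assoc (D.x i b * D.n i)⁻¹, h.right _ u hu t]
  left u hu := D.hecke_fixed _ i h.left hu

end BiFun

theorem decomp (E : D.Ext) (g : G) :
    ∃ u ∈ D.U, ∃ m ∈ D.N, ∃ v ∈ D.U, ∃ t : D.T, g = u * m * (v * (t : G)) := by
  obtain ⟨a, ha, m, hm, c, hc, rfl⟩ := D.cells g
  obtain ⟨u₁, hu₁, t₁, ht₁, rfl⟩ := (D.mem_B a).mp ha
  obtain ⟨u₂, hu₂, t₂, ht₂, rfl⟩ := (D.mem_B c).mp hc
  exact ⟨u₁, hu₁, t₁ * m, mul_mem (E.T_le_N ht₁) hm, u₂, hu₂, ⟨t₂, ht₂⟩, by group⟩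

theorem BiFun.ext_N {ψ : D.T →* kˣ} {φ φ' : G → k} (E : D.Ext) (h : D.BiFun ψ φ)
    (h' : D.BiFun ψ φ') (e : ∀ m ∈ D.N, φ m = φ' m) : φ = φ' := by
  funext g
  obtain ⟨u, hu, m, hm, v, hv, t, rfl⟩ := D.decomp E g
  rw [mul_assoc, h.left_apply hu, h'.left_apply hu, h.right m v hv, h'.right m v hv, e m hm]

theorem exists_biFun (E : D.Ext) (ψ : D.T →* kˣ) (c : G → k)
    (hc : ∀ m ∈ D.N, ∀ t : D.T, c (m * (t : G)) = ((ψ t)⁻¹ : kˣ) * c m) :
    ∃ φ : G → k, D.BiFun ψ φ ∧ ∀ m ∈ D.N, φ m = c m := by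
  choose u hu m hm v hv t e using D.decomp E
  have key : ∀ g u' m' v' (t' : D.T), u' ∈ D.U → m' ∈ D.N → v' ∈ D.U →
      g = u' * m' * (v' * (t' : G)) →
      ((ψ (t g))⁻¹ : kˣ) * c (m g) = ((ψ t')⁻¹ : kˣ) * c m' := by
    intro g u' m' v' t' hu' hm' hv' e'
    let a := (u' : G)⁻¹ * u g
    let cB : D.B :=
      ⟨v g * (t g : G), (D.mem_B _).mpr ⟨v g, hv g, t g, (t g).2, rfl⟩⟩ *
        (⟨v' * (t' : G), (D.mem_B _).mpr ⟨v', hv', t', t'.2, rfl⟩⟩ : D.B)⁻¹
    have ha : a ∈ D.U := mul_mem (inv_mem hu') (hu g)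
    have hm'eq : m' = a * m g * (cB : G) := by
      rw [show m' = (u' : G)⁻¹ * g * (v' * (t' : G))⁻¹ by rw [e']; group]
      conv_lhs => rw [e g]
      simp only [a, cB, Subgroup.coe_mul, Subgroup.coe_inv]
      group
    have hs : (m g)⁻¹ * m' ∈ D.T :=
      E.eqv _ (hm g) _ hm' a (D.mem_B_of_U ha) _ cB.2 hm'eq
    set s : D.T := ⟨_, hs⟩
    have hms : m' = m g * (s : G) := by simp [s]
    rw [hms, hc _ (hm g)]
    let w : D.B := cB * (⟨s, D.mem_B_of_T s.2⟩ : D.B)⁻¹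
    have hw : (w : G) = (m g)⁻¹ * a⁻¹ * m g := by
      rw [show (w : G) = (cB : G) * (s : G)⁻¹ from rfl,
        show (cB : G) = (a * m g)⁻¹ * m' by rw [hm'eq]; group, hms]
      group
    have hw1 : D.psiB ψ w = 1 := by
      obtain ⟨j, hj⟩ := D.U_pgroup ⟨a, ha⟩
      refine unit_eq_one (p := p) (a := j) ?_
      have hw2 : w ^ p ^ j = 1 := by
        refine Subtype.ext ?_
        rw [Subgroup.coe_pow, hw, Subgroup.coe_one]
        have := congrArg Subtype.val hj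
        rw [Subgroup.coe_pow, Subgroup.coe_one] at this
        rw [show (m g)⁻¹ * a⁻¹ * m g = (m g)⁻¹ * a⁻¹ * (m g)⁻¹⁻¹ by rw [inv_inv], conj_pow, inv_pow,
          this]
        group
      rw [← map_pow, hw2, map_one]
    have hcB : D.psiB ψ cB = ψ (t g) * (ψ t')⁻¹ := by
      rw [map_mul, map_inv, D.psiB_eq ψ _ (hv g) (t := t g) rfl,
        D.psiB_eq ψ _ hv' (t := t') rfl]
    rw [map_mul, map_inv, hcB, D.psiB_torus ψ s] at hw1
    have : ψ (t g) = ψ t' * ψ s := by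
      rw [mul_inv_eq_one] at hw1
      rw [← hw1, mul_comm (ψ t'), inv_mul_cancel_right]
    rw [this, mul_inv, Units.val_mul]
    ring
  refine ⟨fun g => ((ψ (t g))⁻¹ : kˣ) * c (m g), ⟨fun g u' hu' t' => ?_, fun u' hu' => ?_⟩,
    fun m' hm' => ?_⟩
  · have e1 : g * (u' * (t' : G)) =
        u g * m g * (v g * ((t g : G) * u' * (t g : G)⁻¹) * ((t g * t' : D.T) : G)) := by
      conv_lhs => rw [e g]
      simp only [Subgroup.coe_mul]
      group
    rw [key _ _ _ _ _ (hu g) (hm g) (mul_mem (hv g) (D.T_U _ (t g).2 u' hu')) e1, map_mul,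
      mul_inv, Units.val_mul]
    ring
  · funext g
    rw [fnRep_apply]
    refine key _ ((u' : G)⁻¹ * u g) (m g) (v g) (t g) (mul_mem (inv_mem hu') (hu g)) (hm g) (hv g) ?_
    conv_lhs => rw [e g]
    group
  · simpa using key m' 1 m' 1 1 (one_mem _) hm' (one_mem _) (by simp)

theorem not_up_down (E : D.Ext) {i : ι} {m : G} (hm : m ∈ D.N) (h1 : D.Up i m) :
    ¬ D.Down i m := fun h2 => by
  have hk := (D.rankOne i).key 1
  simp only [map_one, one_mul, Units.val_one, inv_one] at hk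
  have hu : m⁻¹ * D.n i * m ∈ D.U := by
    rw [← hk, show m⁻¹ * (D.x i 1 * D.y i (-1) * D.x i 1) * m =
      (m⁻¹ * D.x i 1 * m) * (m⁻¹ * D.y i (-1) * m) * (m⁻¹ * D.x i 1 * m) by group]
    exact mul_mem (mul_mem (h1 _) (h2 _)) (h1 _)
  have hs := E.eqv m hm (D.n i * m) (mul_mem (D.n_mem i) hm) 1 (one_mem _) _ (D.mem_B_of_U hu)
    (by group)
  have := E.up_rk m hm i h1
  rw [show D.n i * m = m * (m⁻¹ * (D.n i * m)) by group, E.rk_T m hm _ hs] at this
  exact lt_irrefl _ this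

include D in
theorem cast_card_eq_zero : (Fintype.card F : k) = 0 := by
  obtain ⟨n, hp, hn⟩ := FiniteField.card F p
  rw [hn, Nat.cast_pow, CharP.cast_eq_zero, zero_pow n.pos.ne']

theorem hecke_up {ψ : D.T →* kˣ} {φ : G → k} (h : D.BiFun ψ φ) {i : ι} {m : G}
    (hu : D.Up i m) : D.hecke (fnRep G k) i φ m = 0 := by
  rw [hecke_apply, Finset.sum_apply]
  rw [Finset.sum_congr rfl (g := fun _ => φ ((D.n i)⁻¹ * m)) fun b _ => ?_, Finset.sum_const,
    Finset.card_univ, nsmul_eq_mul, D.cast_card_eq_zero, zero_mul]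
  rw [fnRep_apply, mul_inv_rev, ← D.x_neg,
    show (D.n i)⁻¹ * D.x i (-b) * m = (D.n i)⁻¹ * m * (m⁻¹ * D.x i (-b) * m) by group,
    h.right_U _ (hu (-b))]

theorem hecke_down {ψ : D.T →* kˣ} {φ : G → k} (h : D.BiFun ψ φ) {i : ι} {m : G}
    (hd : D.Down i m) :
    D.hecke (fnRep G k) i φ m = φ ((D.n i)⁻¹ * m) + ∑ u : Fˣ, φ (D.h i u * m) := by
  rw [hecke_apply, Finset.sum_apply, sum_zero_units, fnRep_apply, D.x_zero, one_mul]
  congr 1
  refine Fintype.sum_equiv ((Equiv.neg Fˣ).trans (Equiv.inv Fˣ)) _ _ fun b => ?_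
  set u : Fˣ := (-b)⁻¹
  have hb : -(b : F) = (u : F)⁻¹ := by simp [u, inv_neg]
  show _ = φ (D.h i u * m)
  rw [fnRep_apply, mul_inv_rev, ← D.x_neg, hb, D.n_inv_x_eq,
    show D.x i (-(u : F)) * D.h i u * D.y i (u : F) * m =
      D.x i (-(u : F)) * (D.h i u * m * (m⁻¹ * D.y i (u : F) * m)) by group,
    h.left_apply (D.x_mem i _), h.right_U _ (hd _)]

/-- The sum of a character over a coroot. -/
theorem sum_coroot (ψ : D.T →* kˣ) (i : ι) :
    ((∀ u, ψ (D.hT' i u) = 1) → ∑ u : Fˣ, (ψ (D.hT' i u) : k) = -1) ∧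
      ((¬ ∀ u, ψ (D.hT' i u) = 1) → ∑ u : Fˣ, (ψ (D.hT' i u) : k) = 0) := by
  refine ⟨fun h => ?_, fun h => ?_⟩
  · simp only [h, Units.val_one, Finset.sum_const, Finset.card_univ, nsmul_eq_mul, mul_one,
      Fintype.card_units]
    rw [Nat.cast_sub Fintype.card_pos, D.cast_card_eq_zero]
    simp
  · exact sum_hom_units_eq_zero ((Units.coeHom k).comp (ψ.comp (D.hT' i))) fun e =>
      h fun u => Units.ext (by simpa using DFunLike.congr_fun e u)

theorem sum_coroot_apply {ψg : D.T →* kˣ} {φ : G → k}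
    (hT : ∀ t : D.T, fnRep G k (t : G) φ = (ψg t : k) • φ) (i : ι) (m : G) :
    ∑ u : Fˣ, φ (D.h i u * m) = (∑ u : Fˣ, (ψg (D.hT' i u) : k)) * φ m := by
  rw [Finset.sum_mul]
  refine Fintype.sum_equiv (Equiv.inv Fˣ) _ _ fun u => ?_
  have := congrFun (hT (D.hT' i u⁻¹)) m
  rw [fnRep_apply, Pi.smul_apply, smul_eq_mul, coe_hT', map_inv, inv_inv] at this
  rw [Equiv.inv_apply, this]

/-- `m`-conjugation on the torus. -/
def conjT {m : G} (hm : m ∈ D.N) : D.T →* D.T :=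
  MonoidHom.mk' (fun t => ⟨m⁻¹ * (t : G) * m, D.N_T' hm t.2⟩) fun a b => Subtype.ext (by
    simp only [Subgroup.coe_mul]; group)

@[simp] theorem coe_conjT {m : G} (hm : m ∈ D.N) (t : D.T) :
    (D.conjT hm t : G) = m⁻¹ * (t : G) * m := rfl

theorem torus_eig (E : D.Ext) {ψ ψg : D.T →* kˣ} {φ : G → k} (h : D.BiFun ψ φ)
    (hN : ∀ m ∈ D.N, ∀ t : D.T, φ ((t : G)⁻¹ * m) = (ψg t : k) * φ m) (t : D.T) :
    fnRep G k (t : G) φ = (ψg t : k) • φ := by
  have h1 : D.BiFun ψ (fnRep G k (t : G) φ) :=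
    ⟨fun g u hu s => by rw [fnRep_apply, fnRep_apply, ← mul_assoc, h.right _ u hu s],
      fun u hu => by
        rw [← Module.End.mul_apply, ← map_mul,
          show u * (t : G) = (t : G) * ((t : G)⁻¹ * u * t) by group, map_mul, Module.End.mul_apply,
          h.left _ (D.T_U' t.2 hu)]⟩
  exact BiFun.ext_N D E h1 (h.smul _) fun m hm => by
    rw [fnRep_apply, hN m hm t, Pi.smul_apply, smul_eq_mul]

section Irr

variable {W : Type*} [AddCommGroup W] [Module k W] [FiniteDimensional k W] [IsAlgClosed k]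
  (ρ : Representation k G W)

theorem exists_eig (E : D.Ext) [Nontrivial W] : ∃ (ψ : D.T →* kˣ) (J : Set ι) (f : W),
    D.Eig ρ ψ J f ∧ ∀ i ∈ J, ∀ u, ψ (D.hT' i u) = 1 := by
  classical
  obtain ⟨w₀, hw₀, hw₀U⟩ := CfsgLib.FGS.FreeCompl.exists_fixed_of_pGroup D.U_pgroup
    (MonoidHom.comp ρ D.U.subtype)
  let FU : Submodule k W := ⨅ u : D.U, LinearMap.ker (ρ (u : G) - 1)
  have hFU : ∀ {v}, v ∈ FU ↔ ∀ u ∈ D.U, ρ u v = v := by
    simp [FU, Submodule.mem_iInf, sub_eq_zero]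
  obtain ⟨f, hfW, hf0, heig⟩ := exists_common_eigen ρ D.T D.T_comm FU
    (fun e => hw₀ (by
      have : w₀ ∈ FU := hFU.mpr fun u hu => hw₀U ⟨u, hu⟩
      rwa [e, Submodule.mem_bot] at this))
    (fun t ht v hv => hFU.mpr fun u hu => by
      rw [← Module.End.mul_apply, ← map_mul, show u * t = t * (t⁻¹ * u * t) by group, map_mul,
        Module.End.mul_apply, hFU.mp hv _ (D.T_U' ht hu)])
  have hfU := hFU.mp hfW
  choose θ hθ using fun t : D.T => heig t t.2
  have hinj : ∀ {a b : k}, a • f = b • f → a = b := fun e => smul_left_injective k hf0 e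
  let θ' : D.T →* k :=
    { toFun := θ
      map_one' := hinj (by rw [← hθ, Subgroup.coe_one, map_one, Module.End.one_apply, one_smul])
      map_mul' := fun a b => hinj (by
        rw [← hθ, Subgroup.coe_mul, map_mul, Module.End.mul_apply, hθ, map_smul, hθ, smul_smul,
          mul_comm]) }
  let ψ : D.T →* kˣ := θ'.toHomUnits
  have hfT : ∀ t : D.T, ρ (t : G) f = (ψ t : k) • f := hθ
  -- the map from functions to `W`
  let Φ : (G → k) →ₗ[k] W :=
    ∑ x : G ⧸ D.B, (LinearMap.proj x.out : (G → k) →ₗ[k] k).smulRight (ρ x.out f)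
  have hΦ : ∀ φ, Φ φ = ∑ x : G ⧸ D.B, φ x.out • ρ x.out f := fun φ => by
    simp [Φ, LinearMap.sum_apply]
  have hterm : ∀ {φ : G → k}, (∀ g, ∀ u ∈ D.U, ∀ t : D.T,
      φ (g * (u * t)) = ((ψ t)⁻¹ : kˣ) * φ g) → ∀ g g', g⁻¹ * g' ∈ D.B →
      φ g' • ρ g' f = φ g • ρ g f := by
    intro φ hφ g g' hb
    obtain ⟨u, hu, t, ht, e⟩ := (D.mem_B _).mp hb
    rw [inv_mul_eq_iff_eq_mul] at e
    rw [e, hφ g u hu ⟨t, ht⟩, map_mul, map_mul, Module.End.mul_apply, Module.End.mul_apply,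
      hfT ⟨t, ht⟩, map_smul, map_smul, hfU u hu, smul_smul, mul_right_comm, Units.inv_mul, one_mul]
  have hequiv : ∀ {φ : G → k}, (∀ g, ∀ u ∈ D.U, ∀ t : D.T,
      φ (g * (u * t)) = ((ψ t)⁻¹ : kˣ) * φ g) → ∀ g, Φ (fnRep G k g φ) = ρ g (Φ φ) := by
    intro φ hφ g
    rw [hΦ, hΦ, map_sum]
    simp only [map_smul, fnRep_apply, ← Module.End.mul_apply, ← map_mul]
    refine Fintype.sum_equiv (MulAction.toPerm (α := G) (β := G ⧸ D.B) g⁻¹) _ _ fun x => ?_
    set y := (g⁻¹ • x : G ⧸ D.B)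
    show φ (g⁻¹ * x.out) • ρ x.out f = φ y.out • ρ (g * y.out) f
    have hy : (g⁻¹ * x.out)⁻¹ * y.out ∈ D.B := by
      refine QuotientGroup.eq.mp ?_
      rw [QuotientGroup.out_eq']
      conv_rhs => rw [show y = g⁻¹ • x from rfl, ← QuotientGroup.out_eq' x]
      rfl
    rw [map_mul, Module.End.mul_apply, ← map_smul (ρ g) (φ y.out), hterm hφ _ _ hy, map_smul,
      ← Module.End.mul_apply, ← map_mul, mul_inv_cancel_left]
  -- indicators
  have hind : ∀ m ∈ D.N, ∃ e : G → k, D.BiFun ψ e ∧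
      (∀ m' ∈ D.N, m⁻¹ * m' ∉ D.T → e m' = 0) ∧
      ∀ s : D.T, e (m * (s : G)) = ((ψ s)⁻¹ : kˣ) := by
    intro m hm
    let c : G → k := fun m' => if h : m⁻¹ * m' ∈ D.T then ((ψ ⟨_, h⟩)⁻¹ : kˣ) else 0
    obtain ⟨e, he, hev⟩ := D.exists_biFun E ψ c fun m' _ t => by
      by_cases h : m⁻¹ * m' ∈ D.T
      · rw [show c (m' * (t : G)) = _ from dif_pos (by rw [← mul_assoc]; exact mul_mem h t.2),
          show c m' = _ from dif_pos h, ← Units.val_mul, ← mul_inv, ← map_mul]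
        congr 3
        exact Subtype.ext (((mul_assoc _ _ _).symm).trans (D.T_comm _ h _ t.2))
      · rw [show c (m' * (t : G)) = 0 from dif_neg fun h' => h (by
          have := mul_mem h' (inv_mem t.2); rwa [← mul_assoc, mul_inv_cancel_right] at this),
          show c m' = 0 from dif_neg h, mul_zero]
    refine ⟨e, he, fun m' hm' h => (hev m' hm').trans (dif_neg h), fun s => ?_⟩
    rw [he.right_T, hev m hm, show c m = _ from dif_pos (by rw [inv_mul_cancel]; exact one_mem _)]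
    rw [show (⟨m⁻¹ * m, _⟩ : D.T) = 1 from Subtype.ext (inv_mul_cancel m), map_one, inv_one,
      Units.val_one, mul_one]
  choose e he he0 heT using hind
  have hem : ∀ m (hm : m ∈ D.N), e m hm m = 1 := fun m hm => by simpa using heT m hm 1
  have he1 : Φ (e 1 (one_mem _)) = f := by
    rw [hΦ, Finset.sum_eq_single (QuotientGroup.mk 1 : G ⧸ D.B)]
    · rw [hterm (he 1 _).right 1 _ (QuotientGroup.eq.mp (QuotientGroup.out_eq' _).symm), hem,
        one_smul, map_one, Module.End.one_apply]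
    · intro x _ hx
      suffices e 1 (one_mem _) x.out = 0 by rw [this, zero_smul]
      obtain ⟨u, hu, m, hm, v, hv, t, ex⟩ := D.decomp E x.out
      rw [ex, mul_assoc, (he 1 _).left_apply hu, (he 1 _).right m v hv t,
        he0 1 _ m hm fun hT => hx ?_, mul_zero]
      rw [inv_one, one_mul] at hT
      rw [← QuotientGroup.out_eq' x, eq_comm, QuotientGroup.eq, inv_one, one_mul, ex]
      exact mul_mem (mul_mem (D.mem_B_of_U hu) (D.mem_B_of_T hT))
        ((D.mem_B _).mpr ⟨v, hv, t, t.2, rfl⟩)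
    · simp
  obtain ⟨m, hmS, hmax⟩ := Finset.exists_max_image
    (Finset.univ.filter fun m => ∃ hm : m ∈ D.N, Φ (e m hm) ≠ 0) E.rk
    ⟨1, Finset.mem_filter.mpr ⟨Finset.mem_univ _, one_mem _, by rw [he1]; exact hf0⟩⟩
  obtain ⟨hm, hne⟩ := (Finset.mem_filter.mp hmS).2
  set ψg : D.T →* kˣ := ψ.comp (D.conjT hm)
  have heTor : ∀ t : D.T, fnRep G k (t : G) (e m hm) = (ψg t : k) • e m hm := by
    refine fun t => D.torus_eig E (he m hm) (fun m' hm' t => ?_) t
    by_cases h : m⁻¹ * m' ∈ D.T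
    · obtain ⟨s, rfl⟩ : ∃ s : D.T, m' = m * (s : G) := ⟨⟨_, h⟩, (mul_inv_cancel_left _ _).symm⟩
      rw [show (t : G)⁻¹ * (m * (s : G)) = m * (((D.conjT hm t)⁻¹ * s : D.T) : G) by
        simp only [Subgroup.coe_mul, Subgroup.coe_inv, coe_conjT]; group,
        heT, heT, map_mul, map_inv, mul_inv, inv_inv, Units.val_mul]
      rfl
    · have h2 : (t : G)⁻¹ * m' ∈ D.N := mul_mem (E.T_le_N (inv_mem t.2)) hm'
      rw [he0 m hm m' hm' h, mul_zero, he0 m hm _ h2 fun h' => h ?_]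
      have := mul_mem (D.N_T' hm t.2) h'
      rwa [show m⁻¹ * (t : G) * m * (m⁻¹ * ((t : G)⁻¹ * m')) = m⁻¹ * m' by group] at this
  have hnotT : ∀ {i m'}, m' ∈ D.N → m⁻¹ * m' ∈ D.T →
      (D.Up i m → ¬ D.Down i m') ∧ (D.Down i m → ¬ D.Up i m') := by
    intro i m' hm' h
    have e1 : m' = m * (m⁻¹ * m') := (mul_inv_cancel_left _ _).symm
    refine ⟨fun hu hd => ?_, fun hd hu => ?_⟩
    · exact D.not_up_down E hm' (e1 ▸ hu.mul_T h) hd
    · exact D.not_up_down E hm' hu (e1 ▸ hd.mul_T h)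
  let J : Set ι := {i | D.Down i m ∧ ∀ u, ψg (D.hT' i u) = 1}
  refine ⟨ψg, J, Φ (e m hm), ⟨hne, fun u hu => ?_, fun t => ?_, fun i => ?_⟩, fun i hi => hi.2⟩
  · rw [← hequiv (he m hm).right, (he m hm).left u hu]
  · rw [← hequiv (he m hm).right, heTor t, map_smul]
  have hAe : Φ (D.hecke (fnRep G k) i (e m hm)) = D.hecke ρ i (Φ (e m hm)) := by
    simp only [hecke_apply, map_sum, hequiv (he m hm).right]
  rw [← hAe]
  rcases E.side m hm i with hu | hd
  · have hnm : D.n i * m ∈ D.N := mul_mem (D.n_mem i) hm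
    rw [show mu k J i = 0 from if_neg fun hJ => D.not_up_down E hm hu hJ.1, zero_smul]
    have hΦ0 : Φ (e _ hnm) = 0 := by
      by_contra h0
      have := hmax _ (Finset.mem_filter.mpr ⟨Finset.mem_univ _, hnm, h0⟩)
      exact absurd (E.up_rk m hm i hu) (not_lt.mpr this)
    rw [show D.hecke (fnRep G k) i (e m hm) =
      D.hecke (fnRep G k) i (e m hm) (D.n i * m) • e _ hnm from ?_, map_smul, hΦ0, smul_zero]
    refine BiFun.ext_N D E ((he m hm).hecke i) ((he _ hnm).smul _) fun m' hm' => ?_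
    rw [Pi.smul_apply, smul_eq_mul]
    by_cases h : (D.n i * m)⁻¹ * m' ∈ D.T
    · obtain ⟨s, rfl⟩ : ∃ s : D.T, m' = D.n i * m * (s : G) :=
        ⟨⟨_, h⟩, (mul_inv_cancel_left _ _).symm⟩
      rw [((he m hm).hecke i).right_T, heT, mul_comm]
    · rw [he0 _ hnm m' hm' h, mul_zero]
      rcases E.side m' hm' i with hu' | hd'
      · exact D.hecke_up (he m hm) hu'
      · rw [D.hecke_down (he m hm) hd', D.sum_coroot_apply heTor,
          he0 m hm m' hm' fun h' => (hnotT hm' h').1 hu hd', mul_zero, add_zero,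
          he0 m hm _ (mul_mem (inv_mem (D.n_mem i)) hm') ?_]
        rwa [← mul_assoc, ← mul_inv_rev]
  · have key : D.hecke (fnRep G k) i (e m hm) =
        (∑ u : Fˣ, (ψg (D.hT' i u) : k)) • e m hm := by
      refine BiFun.ext_N D E ((he m hm).hecke i) ((he m hm).smul _) fun m' hm' => ?_
      rw [Pi.smul_apply, smul_eq_mul]
      rcases E.side m' hm' i with hu' | hd'
      · rw [D.hecke_up (he m hm) hu', he0 m hm m' hm' fun h' => (hnotT hm' h').2 hd hu', mul_zero]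
      · rw [D.hecke_down (he m hm) hd', D.sum_coroot_apply heTor,
          he0 m hm _ (mul_mem (inv_mem (D.n_mem i)) hm')
            (fun h' => (hnotT (mul_mem (inv_mem (D.n_mem i)) hm') h').2 hd hd'.up), zero_add]
    rw [key, map_smul]
    congr 1
    by_cases hS : ∀ u, ψg (D.hT' i u) = 1
    · rw [(D.sum_coroot ψg i).1 hS, show mu k J i = -1 from if_pos ⟨hd, hS⟩]
    · rw [(D.sum_coroot ψg i).2 hS, show mu k J i = 0 from if_neg fun hJ => hS hJ.2]

end Irr

variable (k) in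
/-- Every set of indices on whose coroots a character is trivial has its subgroup of `N`. -/
def HasLevi : Prop :=
  ∀ (ψ : D.T →* kˣ) (K : Set ι), (∀ i ∈ K, ∀ u, ψ (D.hT' i u) = 1) →
    ∃ (NK : Subgroup G) (χ : NK →* kˣ) (hT : D.T ≤ NK), NK ≤ D.N ∧
      (∀ t : D.T, χ ⟨t, hT t.2⟩ = ψ t) ∧ (∀ i ∈ K, ∃ h : D.n i ∈ NK, χ ⟨_, h⟩ = 1) ∧
      ∀ z ∈ NK, ∀ i ∉ K, ∀ a, z⁻¹ * D.y i a * z ∈ D.V

theorem exists_eig_of_levi (E : D.Ext) (hL : D.HasLevi k) (ψ : D.T →* kˣ) (J : Set ι)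
    (hJ : ∀ i ∈ J, ∀ u, ψ (D.hT' i u) = 1) : ∃ φ : G → k, D.Eig (fnRep G k) ψ J φ := by
  classical
  obtain ⟨NK, χ, hTK, hNK, hχT, hχn, hχV⟩ :=
    hL ψ {i | (∀ u, ψ (D.hT' i u) = 1) ∧ i ∉ J} fun i hi => hi.1
  set w := E.w0
  let c : G → k := fun m => if h : m * w⁻¹ ∈ NK then ((χ ⟨_, h⟩)⁻¹ : kˣ) else 0
  let ψ' : D.T →* kˣ := ψ.comp (MonoidHom.mk'
    (fun t : D.T => (⟨w * (t : G) * w⁻¹, D.N_T _ E.w0_mem _ t.2⟩ : D.T))
    fun a b => Subtype.ext (by simp only [Subgroup.coe_mul]; group))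
  obtain ⟨φ, hφ, hφv⟩ := D.exists_biFun E ψ' c fun m _ t => by
    have e : m * (t : G) * w⁻¹ = m * w⁻¹ * (w * (t : G) * w⁻¹) := by group
    have ht : w * (t : G) * w⁻¹ ∈ D.T := D.N_T _ E.w0_mem _ t.2
    by_cases h : m * w⁻¹ ∈ NK
    · rw [show c (m * (t : G)) = _ from dif_pos (by rw [e]; exact mul_mem h (hTK ht)),
        show c m = _ from dif_pos h,
        show (⟨m * (t : G) * w⁻¹, _⟩ : NK) = ⟨_, h⟩ * ⟨_, hTK ht⟩ from Subtype.ext e, map_mul,
        hχT ⟨_, ht⟩, mul_inv, Units.val_mul, mul_comm]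
      rfl
    · rw [show c (m * (t : G)) = 0 from dif_neg fun h' => h (by
        rw [e] at h'
        have := mul_mem h' (inv_mem (hTK ht)); rwa [mul_inv_cancel_right] at this),
        show c m = 0 from dif_neg h, mul_zero]
  have hT : ∀ t : D.T, fnRep G k (t : G) φ = (ψ t : k) • φ :=
    D.torus_eig E hφ fun m hm t => by
      have h2 : (t : G)⁻¹ * m ∈ D.N := mul_mem (E.T_le_N (inv_mem t.2)) hm
      rw [hφv _ h2, hφv _ hm]
      by_cases h : m * w⁻¹ ∈ NK
      · rw [show c ((t : G)⁻¹ * m) = _ from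
          dif_pos (by rw [mul_assoc]; exact mul_mem (inv_mem (hTK t.2)) h),
          show c m = _ from dif_pos h,
          show (⟨(t : G)⁻¹ * m * w⁻¹, _⟩ : NK) = (⟨t, hTK t.2⟩)⁻¹ * ⟨_, h⟩ from
            Subtype.ext (mul_assoc _ _ _), map_mul, map_inv, hχT, mul_inv, inv_inv, Units.val_mul]
      · rw [show c ((t : G)⁻¹ * m) = 0 from dif_neg fun h' => h (by
          have := mul_mem (hTK t.2) h'; rwa [← mul_assoc, mul_inv_cancel_left] at this),
          show c m = 0 from dif_neg h, mul_zero]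
  refine ⟨φ, fun e => ?_, hφ.left, hT, fun i => ?_⟩
  · have := hφv w E.w0_mem
    rw [e, show c w = _ from dif_pos (by rw [mul_inv_cancel]; exact one_mem _)] at this
    exact Units.ne_zero _ this.symm
  refine BiFun.ext_N D E (hφ.hecke i) (hφ.smul _) fun m hm => ?_
  rw [Pi.smul_apply, smul_eq_mul]
  have hn' : (D.n i)⁻¹ * m ∈ D.N := mul_mem (inv_mem (D.n_mem i)) hm
  by_cases hK : (∀ u, ψ (D.hT' i u) = 1) ∧ i ∉ J
  · rw [show mu k J i = 0 from if_neg hK.2, zero_mul]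
    obtain ⟨hn, hχn1⟩ := hχn i hK
    rcases E.side m hm i with hu | hd
    · exact D.hecke_up hφ hu
    rw [D.hecke_down hφ hd, D.sum_coroot_apply hT, (D.sum_coroot ψ i).1 hK.1, neg_one_mul,
      add_neg_eq_zero, hφv _ hn', hφv _ hm]
    by_cases h : m * w⁻¹ ∈ NK
    · rw [show c m = _ from dif_pos h, show c ((D.n i)⁻¹ * m) = _ from
        dif_pos (by rw [mul_assoc]; exact mul_mem (inv_mem hn) h),
        show (⟨(D.n i)⁻¹ * m * w⁻¹, _⟩ : NK) = (⟨_, hn⟩)⁻¹ * ⟨_, h⟩ from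
          Subtype.ext (mul_assoc _ _ _), map_mul, map_inv, hχn1, inv_one, one_mul]
    · rw [show c m = 0 from dif_neg h, show c ((D.n i)⁻¹ * m) = 0 from dif_neg fun h' => h (by
        have := mul_mem hn h'; rwa [← mul_assoc, mul_inv_cancel_left] at this)]
  · have hdown : ∀ m' : G, m' * w⁻¹ ∈ NK → D.Down i m' := by
      intro m' h a
      rw [E.w0_conj]
      have := hχV _ h i hK a
      rwa [show w * (m'⁻¹ * D.y i a * m') * w⁻¹ =
        (m' * w⁻¹)⁻¹ * D.y i a * (m' * w⁻¹) by group]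
    rcases E.side m hm i with hu | hd
    · rw [D.hecke_up hφ hu, hφv _ hm, show c m = 0 from
        dif_neg fun h => D.not_up_down E hm hu (hdown m h), mul_zero]
    · rw [D.hecke_down hφ hd, D.sum_coroot_apply hT, hφv _ hn', show c ((D.n i)⁻¹ * m) = 0 from
        dif_neg fun h => D.not_up_down E hn' hd.up (hdown _ h), zero_add]
      congr 1
      by_cases hS : ∀ u, ψ (D.hT' i u) = 1
      · rw [(D.sum_coroot ψ i).1 hS, show mu k J i = -1 from
          if_pos (by by_contra hJ'; exact hK ⟨hS, hJ'⟩)]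
      · rw [(D.sum_coroot ψ i).2 hS, show mu k J i = 0 from if_neg fun hJ' => hS (hJ i hJ')]

end CfsgLib.DefectZero.SplitData
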